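import Cfsg.Agent.Lib.Geo.SLMin.Main

/-!
# The transvection group has fixed vectors in a small representation of `SL`

Owner: helper23. A transvection of the complement fixes a weight and is a commutator in the
stabiliser of that weight, which rules out a representation with no fixed vectors.
-/

set_option autoImplicit false

namespace CfsgLib.SLMinDeg

open Module

variable {F : Type*} [Field F] {k : ℕ}

theorem Setup.act_mul (S : Setup F k) (g h : U F k ≃ₗ[F] U F k) (u : U F k) :
    S.act (g * h) u = S.act g (S.act h u) := by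
  simp only [Setup.act, map_mul, mul_inv, Units.val_mul, LinearEquiv.mul_apply, map_smul,
    smul_smul]

theorem Setup.act_inv (S : Setup F k) {g : U F k ≃ₗ[F] U F k} {u : U F k} (h : S.act g u = u) :
    S.act g⁻¹ u = u := by
  conv_lhs => rw [← h, ← S.act_mul, inv_mul_cancel]
  simp [Setup.act]

theorem dual_of_notMem {V : Type*} [AddCommGroup V] [Module F V] [FiniteDimensional F V]
    {x : V} {p : Submodule F V} (h : x ∉ p) :
    ∃ f : Dual F V, f x = 1 ∧ ∀ y ∈ p, f y = 0 := by
  obtain ⟨f, hfx, hf⟩ := Submodule.exists_dual_map_eq_bot_of_notMem h inferInstance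
  refine ⟨(f x)⁻¹ • f, by simp [inv_mul_cancel₀ hfx], fun y hy => ?_⟩
  have := Submodule.mem_map_of_mem (f := f) hy
  rw [hf, Submodule.mem_bot] at this
  simp [this]

theorem exists_sq_ne_one [Fintype F] (h : 4 ≤ Fintype.card F) : ∃ r : Fˣ, r * r ≠ 1 := by
  classical
  by_contra hall
  push Not at hall
  have hsub : (Finset.univ : Finset Fˣ) ⊆ {1, -1} := fun r _ => by
    have h1 : ((r : F) - 1) * ((r : F) + 1) = 0 := by
      have h2 : (r : F) * r = 1 := by rw [← Units.val_mul, hall r, Units.val_one]
      linear_combination h2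
    rcases mul_eq_zero.1 h1 with h3 | h3
    · exact Finset.mem_insert.2 (Or.inl (Units.ext (sub_eq_zero.1 h3)))
    · exact Finset.mem_insert.2
        (Or.inr (Finset.mem_singleton.2 (Units.ext (eq_neg_of_add_eq_zero_left h3))))
  have h1 := (Finset.card_le_card hsub).trans Finset.card_le_two
  rw [Finset.card_univ, Fintype.card_units] at h1
  omega

theorem exists_cube_ne_one [Fintype F] (h2 : Fintype.card F ≠ 2) (h4 : Fintype.card F ≠ 4) :
    ∃ r : Fˣ, r ^ 3 ≠ 1 := by
  classical
  by_contra hall
  push Not at hall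
  have := (FiniteField.forall_pow_eq_one_iff F 3).1 hall
  rcases (Nat.dvd_prime Nat.prime_three).1 this with h | h
  · exact h2 (by have := Fintype.one_lt_card (α := F); omega)
  · exact h4 (by omega)

/-- A dilation along a vector. -/
theorem exists_dilation {V : Type*} [AddCommGroup V] [Module F V] [FiniteDimensional F V]
    (p : Dual F V) (x : V) (hp : p x = 1) (α : Fˣ) :
    ∃ h : V ≃ₗ[F] V, (∀ y, h y = y + p y • (((α : F) - 1) • x)) ∧ LinearEquiv.det h = α := by
  have hd : LinearMap.det (LinearMap.transvection p (((α : F) - 1) • x)) = (α : F) := by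
    rw [LinearMap.transvection.det, map_smul, hp, smul_eq_mul, mul_one, add_sub_cancel]
  refine ⟨LinearMap.equivOfDetNeZero _ (by rw [hd]; exact α.ne_zero), fun y => rfl, ?_⟩
  rw [← Units.val_inj, LinearEquiv.coe_det]
  exact hd

/-- A transvection fixing a weight is a commutator of maps fixing that weight. -/
theorem exists_commutator [Fintype F] (hk : 2 ≤ k)
    (h2 : k = 2 → Fintype.card F ≠ 2 ∧ Fintype.card F ≠ 4) (h3 : k = 3 → 4 ≤ Fintype.card F)
    {u v : U F k} {f : Dual F (U F k)} (hu : u ≠ 0) (hv : v ≠ 0) (hf : f ≠ 0) (hfv : f v = 0)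
    (hfu : f u = 0) :
    ∃ g h : U F k ≃ₗ[F] U F k, (LinearEquiv.det g : F) • g u = u ∧
      (LinearEquiv.det h : F) • h u = u ∧
      LinearEquiv.transvection hfv = g * h * g⁻¹ * h⁻¹ := by
  set p : Submodule F (U F k) := F ∙ u ⊔ F ∙ v with hp
  by_cases hw : ∃ w, f w = 0 ∧ w ∉ p
  · obtain ⟨w, hfw, hwp⟩ := hw
    obtain ⟨g, hgw, hg⟩ := dual_of_notMem hwp
    have hgv : g v = 0 := hg v (Submodule.mem_sup_right (Submodule.mem_span_singleton_self v))
    have hgu : g u = 0 := hg u (Submodule.mem_sup_left (Submodule.mem_span_singleton_self u))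
    refine ⟨LinearEquiv.transvection hgv, LinearEquiv.transvection hfw, ?_, ?_, ?_⟩
    · rw [det_transvection, Units.val_one, one_smul, LinearEquiv.transvection.apply, hgu,
        zero_smul, add_zero]
    · rw [det_transvection, Units.val_one, one_smul, LinearEquiv.transvection.apply, hfu,
        zero_smul, add_zero]
    · rw [conj_transvection]
      refine eq_mul_inv_of_mul_eq (LinearEquiv.ext fun x => ?_)
      simp only [LinearEquiv.mul_apply, LinearEquiv.transvection.apply, LinearMap.comp_apply,
        LinearEquiv.coe_coe]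
      have hsymm : (LinearEquiv.transvection hgv).symm x = x - g x • v := by
        rw [LinearEquiv.symm_apply_eq, LinearEquiv.transvection.apply, map_sub, map_smul, hgv]
        simp
      rw [hsymm, hgw]
      simp only [map_add, map_sub, map_smul, hfv, hfw, smul_zero, sub_zero, add_zero]
      module
  push Not at hw
  have hker : LinearMap.ker f ≤ p := fun w hw' => hw w hw'
  have hkerdim : finrank F (LinearMap.ker f) + 1 = k := by
    rw [Module.Dual.finrank_ker_add_one_of_ne_zero hf, finrank_fin_fun]
  have hle1 : ∀ x : U F k, finrank F (F ∙ x) ≤ 1 := fun x =>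
    (finrank_span_le_card ({x} : Set (U F k))).trans (by simp)
  by_cases huv : u ∈ F ∙ v
  · -- `k = 2`
    have hpv : p = F ∙ v := sup_eq_right.2 (Submodule.span_le.2 (by simpa using huv))
    have hkk : k = 2 := by
      have := (Submodule.finrank_mono (hpv ▸ hker)).trans (hle1 v)
      omega
    obtain ⟨r, hr⟩ := exists_cube_ne_one (h2 hkk).1 (h2 hkk).2
    obtain ⟨z, hz⟩ := DFunLike.ne_iff.1 hf
    set z' : U F k := (f z)⁻¹ • z with hz'
    have hfz : f z' = 1 := by
      rw [hz', map_smul, smul_eq_mul]; exact inv_mul_cancel₀ hz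
    have hvz : v ∉ F ∙ z' := fun hm => by
      obtain ⟨c, hc⟩ := Submodule.mem_span_singleton.1 hm
      have := congrArg f hc
      rw [map_smul, hfz, hfv, smul_eq_mul, mul_one] at this
      rw [this, zero_smul] at hc
      exact hv hc.symm
    obtain ⟨g, hgv, hg⟩ := dual_of_notMem hvz
    have hgz : g z' = 0 := hg z' (Submodule.mem_span_singleton_self z')
    obtain ⟨d₁, hd₁, hdet₁⟩ := exists_dilation g v hgv r
    obtain ⟨d₂, hd₂, hdet₂⟩ := exists_dilation f z' hfz ((r * r)⁻¹)
    set d := d₂ * d₁ with hd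
    have hdv : d v = (r : F) • v := by
      rw [hd, LinearEquiv.mul_apply, hd₁, hgv, one_smul]
      rw [show v + ((r : F) - 1) • v = (r : F) • v by module, map_smul, hd₂, hfv, zero_smul,
        add_zero]
    have hfd : ∀ x, f (d x) = (((r * r)⁻¹ : Fˣ) : F) * f x := fun x => by
      rw [hd, LinearEquiv.mul_apply, hd₂, hd₁]
      simp only [map_add, map_smul, smul_eq_mul, hfv, hfz]
      ring
    have hdet : (LinearEquiv.det d : F) * r = 1 := by
      rw [hd, map_mul, hdet₁, hdet₂, ← Units.val_mul]
      simp [mul_assoc]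
    have hne : (r : F) ^ 3 - 1 ≠ 0 := fun h0 =>
      hr (Units.ext (by rw [Units.val_pow_eq_pow_val, Units.val_one]; exact sub_eq_zero.1 h0))
    set v' : U F k := ((r : F) ^ 3 - 1)⁻¹ • v with hv'
    have hfv' : f v' = 0 := by rw [hv', map_smul, hfv, smul_zero]
    obtain ⟨c, hc⟩ := Submodule.mem_span_singleton.1 huv
    refine ⟨d, LinearEquiv.transvection hfv', ?_, ?_, ?_⟩
    · rw [← hc, map_smul, hdv, smul_comm c, smul_smul, hdet, one_smul]
    · rw [det_transvection, Units.val_one, one_smul, LinearEquiv.transvection.apply, hfu,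
        zero_smul, add_zero]
    · rw [conj_transvection]
      refine eq_mul_inv_of_mul_eq (LinearEquiv.ext fun x => ?_)
      have hs : f (d.symm x) = ((r * r : Fˣ) : F) * f x := by
        conv_rhs => rw [← d.apply_symm_apply x, hfd, ← mul_assoc, ← Units.val_mul,
          mul_inv_cancel, Units.val_one, one_mul]
      simp only [LinearEquiv.mul_apply, LinearEquiv.transvection.apply, LinearMap.comp_apply,
        LinearEquiv.coe_coe, map_add, map_smul, hfv', smul_zero, add_zero, hs, hv', hdv,
        smul_smul, add_assoc, ← add_smul, Units.val_mul]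
      congr 2
      simp only [hfv, zero_smul, add_zero, ← add_smul]
      congr 1
      field_simp
      ring
  · -- `k = 3`
    have hkk : k = 3 := by
      have h1 := (Submodule.finrank_mono hker).trans
        ((Submodule.finrank_add_le_finrank_add_finrank _ _).trans (add_le_add (hle1 u) (hle1 v)))
      by_contra hne
      have hk2 : k = 2 := by omega
      have hspan : LinearMap.ker f = F ∙ v := by
        refine (Submodule.eq_of_le_of_finrank_le (Submodule.span_le.2 (by simpa using hfv)) ?_).symm
        rw [finrank_span_singleton hv]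
        omega
      exact huv (hspan ▸ LinearMap.mem_ker.2 hfu)
    obtain ⟨r, hr⟩ := exists_sq_ne_one (h3 hkk)
    obtain ⟨z, hz⟩ := DFunLike.ne_iff.1 hf
    have hzmem : ∀ x : U F k, f x = 0 → ∀ c : F, x + c • z = 0 → x = 0 := fun x hx c hc => by
      have := congrArg f hc
      rw [map_add, hx, zero_add, map_smul, smul_eq_mul, map_zero] at this
      rcases mul_eq_zero.1 this with h | h
      · rwa [h, zero_smul, add_zero] at hc
      · exact absurd h hz
    have hu' : u ∉ F ∙ v ⊔ F ∙ z := fun hm => by
      obtain ⟨a, ha, b, hb, hab⟩ := Submodule.mem_sup.1 hm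
      obtain ⟨c, rfl⟩ := Submodule.mem_span_singleton.1 hb
      obtain ⟨e, rfl⟩ := Submodule.mem_span_singleton.1 ha
      have := hzmem (e • v - u) (by rw [map_sub, map_smul, hfv, hfu, smul_zero, sub_zero]) c
        (by rw [← hab]; abel)
      exact huv (Submodule.mem_span_singleton.2 ⟨e, sub_eq_zero.1 this⟩)
    have hv' : v ∉ F ∙ u ⊔ F ∙ z := fun hm => by
      obtain ⟨a, ha, b, hb, hab⟩ := Submodule.mem_sup.1 hm
      obtain ⟨c, rfl⟩ := Submodule.mem_span_singleton.1 hb
      obtain ⟨e, rfl⟩ := Submodule.mem_span_singleton.1 ha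
      have := hzmem (e • u - v) (by rw [map_sub, map_smul, hfv, hfu, smul_zero, sub_zero]) c
        (by rw [← hab]; abel)
      have he : e • u = v := sub_eq_zero.1 this
      by_cases he0 : e = 0
      · exact hv (by rw [← he, he0, zero_smul])
      · exact huv (Submodule.mem_span_singleton.2
          ⟨e⁻¹, by rw [← he, smul_smul, inv_mul_cancel₀ he0, one_smul]⟩)
    obtain ⟨p₁, hp₁u, hp₁⟩ := dual_of_notMem hu'
    obtain ⟨p₂, hp₂v, hp₂⟩ := dual_of_notMem hv'
    have hp₁v : p₁ v = 0 := hp₁ v (Submodule.mem_sup_left (Submodule.mem_span_singleton_self v))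
    have hp₂u : p₂ u = 0 := hp₂ u (Submodule.mem_sup_left (Submodule.mem_span_singleton_self u))
    obtain ⟨d₁, hd₁, hdet₁⟩ := exists_dilation p₁ u hp₁u r⁻¹
    obtain ⟨d₂, hd₂, hdet₂⟩ := exists_dilation p₂ v hp₂v (r * r)
    set d := d₂ * d₁ with hd
    have hdu : d u = ((r⁻¹ : Fˣ) : F) • u := by
      rw [hd, LinearEquiv.mul_apply, hd₁, hp₁u, one_smul,
        show u + (((r⁻¹ : Fˣ) : F) - 1) • u = ((r⁻¹ : Fˣ) : F) • u by module, map_smul, hd₂,
        hp₂u, zero_smul, add_zero]
    have hdv : d v = ((r * r : Fˣ) : F) • v := by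
      rw [hd, LinearEquiv.mul_apply, hd₁, hp₁v, zero_smul, add_zero, hd₂, hp₂v, one_smul]
      module
    have hfd : ∀ x, f (d x) = f x := fun x => by
      rw [hd, LinearEquiv.mul_apply, hd₂, hd₁]
      simp only [map_add, map_smul, smul_eq_mul, hfv, hfu, mul_zero, add_zero]
    have hdet : (LinearEquiv.det d : F) * ((r⁻¹ : Fˣ) : F) = 1 := by
      rw [hd, map_mul, hdet₁, hdet₂, ← Units.val_mul]
      simp [mul_assoc]
    have hne : (r : F) * r - 1 ≠ 0 := fun h0 =>
      hr (Units.ext (by rw [Units.val_mul, Units.val_one]; exact sub_eq_zero.1 h0))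
    set w : U F k := ((r : F) * r - 1)⁻¹ • v with hw'
    have hfw : f w = 0 := by rw [hw', map_smul, hfv, smul_zero]
    refine ⟨d, LinearEquiv.transvection hfw, ?_, ?_, ?_⟩
    · rw [hdu, smul_smul, hdet, one_smul]
    · rw [det_transvection, Units.val_one, one_smul, LinearEquiv.transvection.apply, hfu,
        zero_smul, add_zero]
    · rw [conj_transvection]
      refine eq_mul_inv_of_mul_eq (LinearEquiv.ext fun x => ?_)
      have hs : f (d.symm x) = f x := by
        conv_rhs => rw [← d.apply_symm_apply x, hfd]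
      simp only [LinearEquiv.mul_apply, LinearEquiv.transvection.apply, LinearMap.comp_apply,
        LinearEquiv.coe_coe, map_add, map_smul, hfw, smul_zero, add_zero, hs, hw', hdv,
        smul_smul, add_assoc, ← add_smul, Units.val_mul]
      congr 2
      simp only [hfv, zero_smul, add_zero, ← add_smul]
      congr 1
      linear_combination (-(f x)) * (inv_mul_cancel₀ hne)

variable [Fintype F]

/-- In a representation of `SL` with simple non-trivial weights some vector is fixed by the
transvection group. -/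
theorem mult_zero_ne [NeZero k] (hk : 2 ≤ k)
    (h2 : k = 2 → Fintype.card F ≠ 2 ∧ Fintype.card F ≠ 4) (h3 : k = 3 → 4 ≤ Fintype.card F)
    {V : Type*} [AddCommGroup V] [Module ℂ V] [FiniteDimensional ℂ V]
    (S : Setup F k) (ha : ∀ g, S.a g = (LinearEquiv.det g)⁻¹)
    (ρ : Representation ℂ S.Γ V) (hm : S.m ρ = 1) : S.mult ρ 0 ≠ 0 := by
  classical
  intro h0
  -- a transvection of the complement
  set v : U F k := Pi.single (⟨0, by omega⟩ : Fin k) (1 : F) with hvdef
  have hv : v ≠ 0 := by simp [hvdef]
  set f : Dual F (U F k) := LinearMap.proj (⟨1, by omega⟩ : Fin k) with hfdef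
  have hfv : f v = 0 := by simp [hfdef, hvdef, Fin.ext_iff]
  have hf : f ≠ 0 := fun h => by
    have := LinearMap.congr_fun h (Pi.single (⟨1, by omega⟩ : Fin k) (1 : F))
    simp [hfdef] at this
  set t := LinearEquiv.transvection hfv with ht
  have htdet : LinearEquiv.det t = 1 := det_transvection hfv
  -- it is conjugate to a transvection with centre `e0`
  have hconj : ∃ φ : Dual F (U F k), φ ≠ 0 ∧ ρ.character (S.iota t) = ρ.character (S.tauG φ) := by
    have hv0 : ((0 : F), v) ≠ 0 := fun h => hv (congrArg Prod.snd h)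
    obtain ⟨g, hgd, hg⟩ := exists_det_one_map hv0
    set φ : Dual F (U F k) :=
      (ext f ∘ₗ (g : W F k →ₗ[F] W F k)) ∘ₗ LinearMap.inr F F (U F k) with hφ
    have he : ext f (g e0) = 0 := by rw [hg, ext_apply]; exact hfv
    have hval : ∀ x : W F k, φ x.2 = f (g x).2 := fun x => by
      have hx : x = x.1 • e0 + ((0 : F), x.2) := by simp [e0]
      rw [← ext_apply f (g x)]
      conv_rhs => rw [hx, map_add, map_add, map_smul, map_smul, he, smul_zero, zero_add]
      rfl
    refine ⟨φ, fun hφ0 => ?_, ?_⟩
    · refine hf (LinearMap.ext fun x => ?_)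
      have h := hval (g.symm ((0 : F), x))
      rw [hφ0, LinearEquiv.apply_symm_apply] at h
      exact h.symm
    · set gG : S.Γ := ⟨g, S.mem_of_det g hgd⟩
      have h : S.iota t = gG * S.tauG φ * gG⁻¹ := Subtype.ext (by
        show lev (S.a t) t = g * tau φ * g⁻¹
        rw [S.a_one t htdet, tau, conj_transvection]
        refine LinearEquiv.ext fun x => ?_
        rw [lev_apply]
        show _ = x + φ (g.symm x).2 • g e0
        rw [hg, hval, LinearEquiv.apply_symm_apply, Units.val_one, one_mul, ht,
          LinearEquiv.transvection.apply]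
        refine Prod.ext ?_ ?_ <;> simp)
      rw [h]
      exact Representation.char_conj ρ (S.tauG φ) gG
  obtain ⟨φ, hφ, hchar⟩ := hconj
  rw [S.character_tauG_ne ρ hφ, h0, hm, Nat.cast_zero, Nat.cast_one, zero_sub] at hchar
  -- the trace on each weight space
  have hterm : ∀ u : U F k, LinearMap.trace ℂ V (ρ (S.iota t) * S.E ρ u) =
      if u ≠ 0 ∧ f u = 0 then 1 else 0 := by
    intro u
    have hidem : ∀ w, S.E ρ w * S.E ρ w = S.E ρ w := fun w => by
      rw [S.E_mul_E, if_pos rfl]
    have hE0 : S.E ρ 0 = 0 := by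
      rw [Setup.mult, Submodule.finrank_eq_zero, LinearMap.range_eq_bot] at h0
      exact h0
    by_cases hu : u = 0
    · subst hu
      rw [hE0, mul_zero, map_zero, if_neg fun h => h.1 rfl]
    by_cases hfu : f u = 0
    · rw [if_pos ⟨hu, hfu⟩]
      obtain ⟨g, h, hgu, hhu, hgh⟩ := exists_commutator hk h2 h3 hu hv hf hfv hfu
      have hact : ∀ g : U F k ≃ₗ[F] U F k, (LinearEquiv.det g : F) • g u = u →
          S.act g u = u := fun g hg => by
        rw [Setup.act, ha, inv_inv]
        exact hg
      -- the range of the projection is a line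
      have h1 : finrank ℂ (LinearMap.range (S.E ρ u)) = 1 := by
        rw [← hm]; exact S.mult_eq ρ hu
      obtain ⟨⟨w, hw⟩, -, hspan⟩ := finrank_eq_one_iff'.1 h1
      have hsc : ∀ x : U F k ≃ₗ[F] U F k, S.act x u = u →
          ∃ s : ℂ, ρ (S.iota x) * S.E ρ u = s • S.E ρ u := fun x hx => by
        obtain ⟨w', hw'⟩ := hw
        have hcomm : ρ (S.iota x) * S.E ρ u = S.E ρ u * ρ (S.iota x) := by
          rw [S.iota_mul_E, hx]
        have hmem : ρ (S.iota x) w ∈ LinearMap.range (S.E ρ u) := ⟨ρ (S.iota x) w', by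
          rw [← hw']
          exact (LinearMap.congr_fun hcomm w').symm⟩
        obtain ⟨s, hs⟩ := hspan ⟨_, hmem⟩
        refine ⟨s, LinearMap.ext fun y => ?_⟩
        obtain ⟨c, hc⟩ := hspan ⟨_, LinearMap.mem_range_self (S.E ρ u) y⟩
        have hc' : c • w = S.E ρ u y := congrArg Subtype.val hc
        have hs' : s • w = ρ (S.iota x) w := congrArg Subtype.val hs
        rw [Module.End.mul_apply, LinearMap.smul_apply, ← hc', map_smul, ← hs', smul_comm]
      obtain ⟨sg, hsg⟩ := hsc g (hact g hgu)
      obtain ⟨sh, hsh⟩ := hsc h (hact h hhu)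
      have hswap : ρ (S.iota (g * h)) * S.E ρ u = ρ (S.iota (h * g)) * S.E ρ u := by
        rw [map_mul, map_mul, map_mul, map_mul, mul_assoc, hsh, mul_smul_comm, hsg, mul_assoc,
          hsg, mul_smul_comm, hsh, smul_comm]
      have ht' : t * (h * g) = g * h := by rw [ht, hgh]; group
      have hfix : ρ (S.iota t) * S.E ρ u = S.E ρ u := by
        have hinv : S.act (h * g)⁻¹ u = u :=
          S.act_inv (by rw [S.act_mul, hact g hgu, hact h hhu])
        obtain ⟨si, hsi⟩ := hsc _ hinv
        have hone : ρ (S.iota (h * g)) * (ρ (S.iota (h * g)⁻¹) * S.E ρ u) = S.E ρ u := by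
          rw [← mul_assoc, ← map_mul, ← map_mul, mul_inv_cancel, map_one, map_one, one_mul]
        calc ρ (S.iota t) * S.E ρ u
            = ρ (S.iota t) * (ρ (S.iota (h * g)) * (ρ (S.iota (h * g)⁻¹) * S.E ρ u)) := by
              rw [hone]
          _ = si • (ρ (S.iota (t * (h * g))) * S.E ρ u) := by
              rw [← mul_assoc, ← map_mul ρ, ← map_mul S.iota, hsi, mul_smul_comm]
          _ = si • (ρ (S.iota (h * g)) * S.E ρ u) := by rw [ht', hswap]
          _ = ρ (S.iota (h * g)) * (ρ (S.iota (h * g)⁻¹) * S.E ρ u) := by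
              rw [hsi, mul_smul_comm]
          _ = S.E ρ u := hone
      rw [hfix, S.trace_E, S.mult_eq ρ hu, hm, Nat.cast_one]
    · rw [if_neg fun h => hfu h.2]
      have hmove : S.act t u ≠ u := by
        rw [S.act_of_det_one t htdet, ht, LinearEquiv.transvection.apply]
        intro h
        rw [add_eq_left, smul_eq_zero] at h
        rcases h with h | h
        · exact hfu h
        · exact hv h
      calc LinearMap.trace ℂ V (ρ (S.iota t) * S.E ρ u)
          = LinearMap.trace ℂ V ((ρ (S.iota t) * S.E ρ u) * S.E ρ u) := by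
            rw [mul_assoc, hidem]
        _ = LinearMap.trace ℂ V (S.E ρ u * (ρ (S.iota t) * S.E ρ u)) :=
            LinearMap.trace_mul_comm ℂ _ _
        _ = 0 := by
            rw [S.iota_mul_E, ← mul_assoc, S.E_mul_E, if_neg (Ne.symm hmove), zero_mul, map_zero]
  have hsum : ρ.character (S.iota t) =
      ((Finset.univ.filter fun u : U F k => u ≠ 0 ∧ f u = 0).card : ℂ) := by
    rw [← Finset.sum_boole]
    have h : ρ (S.iota t) = ∑ u, ρ (S.iota t) * S.E ρ u := by
      rw [← Finset.mul_sum, S.sum_E, mul_one]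
    rw [Representation.character, h, map_sum]
    exact Finset.sum_congr rfl fun u _ => hterm u
  rw [hsum] at hchar
  have := congrArg Complex.re hchar
  simp only [Complex.natCast_re, Complex.neg_re, Complex.one_re] at this
  linarith [(Nat.cast_nonneg _ : (0 : ℝ) ≤ ((Finset.univ.filter fun u : U F k => u ≠ 0 ∧ f u = 0).card : ℝ))]

end CfsgLib.SLMinDeg
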