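import Cfsg.Agent.Lib.Geo.SLMin.Fixed
import Mathlib.LinearAlgebra.Projectivization.Action

/-!
# The smallest non-linear degree of `SL n q`

Owner: helper23.
-/

set_option autoImplicit false

namespace CfsgLib.SLMinDeg

open Module
open scoped LinearAlgebra.Projectivization

variable {F : Type*} [Field F] [Fintype F]

omit [Fintype F] in
/-- The special group of `F × Fᵏ` as a matrix group. -/
noncomputable def toMat (k : ℕ) (hk : 2 ≤ k) :
    (Setup.sl F k hk).Γ →* Matrix.SpecialLinearGroup (Fin (k + 1)) F :=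
  (Matrix.SpecialLinearGroup.toLin'_equiv (n := Fin (k + 1)) (R := F)).symm.toMonoidHom.comp
    { toFun := fun x => ⟨(LinearEquiv.ofFinrankEq (W F k) (U F (k + 1)) (by simp [add_comm])).symm.trans
        ((x : W F k ≃ₗ[F] W F k).trans (LinearEquiv.ofFinrankEq _ _ (by simp [add_comm]))),
          (LinearEquiv.det_conj _ _).trans x.2⟩
      map_one' := SpecialLinearGroup.ext _ _ fun v => by simp
      map_mul' := fun x y => SpecialLinearGroup.ext _ _ fun v => by simp }

omit [Fintype F] in
theorem toMat_surjective (k : ℕ) (hk : 2 ≤ k) : Function.Surjective (toMat (F := F) k hk) := by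
  rw [toMat, MonoidHom.coe_comp]
  refine Function.Surjective.comp (MulEquiv.surjective _) fun g => ?_
  refine ⟨⟨(LinearEquiv.ofFinrankEq (W F k) (U F (k + 1)) (by simp [add_comm])).trans
      ((g : U F (k + 1) ≃ₗ[F] U F (k + 1)).trans
        (LinearEquiv.ofFinrankEq _ _ (by simp [add_comm])).symm), ?_⟩, ?_⟩
  · show LinearEquiv.det _ = 1
    have h := LinearEquiv.det_conj (g : U F (k + 1) ≃ₗ[F] U F (k + 1))
      (LinearEquiv.ofFinrankEq (W F k) (U F (k + 1)) (by simp [add_comm])).symm
    rw [LinearEquiv.symm_symm] at h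
    exact h.trans g.2
  · exact SpecialLinearGroup.ext _ _ fun v => by simp

theorem div_eq (q k : ℕ) (hq : 2 ≤ q) : (q ^ (k + 1) - q) / (q - 1) + 1 = G q (k + 1) := by
  have h : (q ^ (k + 1) - q) = q * G q k * (q - 1) := by
    have hi := G_mul_pred q k
    have h1 : q ≤ q ^ (k + 1) := Nat.le_self_pow (by omega) q
    zify [h1, show 1 ≤ q by omega]
    rw [pow_succ]
    linear_combination (-(q : ℤ)) * hi
  rw [h, Nat.mul_div_cancel _ (by omega), G_succ]

/-- The lower bound for the degree. -/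
theorem le_degree (k : ℕ) (hk : 2 ≤ k)
    (hex : (k + 1, Fintype.card F) ≠ (3, 2) ∧ (k + 1, Fintype.card F) ≠ (3, 4) ∧
      (k + 1, Fintype.card F) ≠ (4, 2) ∧ (k + 1, Fintype.card F) ≠ (4, 3))
    {V : Type} [AddCommGroup V] [Module ℂ V] [FiniteDimensional ℂ V]
    (ρ : Representation ℂ (Matrix.SpecialLinearGroup (Fin (k + 1)) F) V) [ρ.IsIrreducible]
    (hV : 2 ≤ finrank ℂ V) : G (Fintype.card F) (k + 1) ≤ finrank ℂ V + 1 := by
  by_contra hlt
  push Not at hlt
  haveI : NeZero k := ⟨by omega⟩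
  simp only [ne_eq, Prod.mk.injEq, not_and] at hex
  obtain ⟨h32, h34, h42, h43⟩ := hex
  let ρ' : Representation ℂ (Setup.sl F k hk).Γ V := ρ.comp (toMat k hk)
  haveI hρ' : ρ'.IsIrreducible := by
    haveI : Nontrivial (Subrepresentation ρ') :=
      ⟨⊥, ⊤, fun hbt => by
        have := CfsgLib.CharIntegral.nontrivial_of_irreducible ρ
        exact bot_ne_top (congrArg Subrepresentation.toSubmodule hbt)⟩
    refine ⟨fun P => ?_⟩
    have hP : ∀ g, ∀ w ∈ P.toSubmodule, ρ g w ∈ P.toSubmodule := fun g w hw => by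
      obtain ⟨x, rfl⟩ := toMat_surjective k hk g
      exact P.apply_mem_toSubmodule x hw
    rcases eq_or_ne P.toSubmodule ⊥ with h | h
    · exact Or.inl (Subrepresentation.toSubmodule_injective h)
    · exact Or.inr (Subrepresentation.toSubmodule_injective
        (CfsgLib.CharWeights.eq_top_of_invariant ρ P.toSubmodule hP h))
  have hnt : ∃ x : (Setup.sl F k hk).Γ,
      LinearEquiv.det (x : W F k ≃ₗ[F] W F k) = 1 ∧ ρ' x ≠ 1 := by
    by_contra hall
    push Not at hall
    obtain ⟨v, hv⟩ : ∃ v : V, v ≠ 0 := by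
      have := CfsgLib.CharIntegral.nontrivial_of_irreducible ρ
      exact exists_ne 0
    have htop := CfsgLib.CharWeights.eq_top_of_invariant ρ' (Submodule.span ℂ {v})
      (fun g y hy => by rw [hall g g.2, Module.End.one_apply]; exact hy) (by simpa using hv)
    rw [← finrank_top ℂ V, ← htop, finrank_span_singleton hv] at hV
    omega
  obtain ⟨hm, hsmall⟩ := small_degree k (Setup.sl F k hk) V ρ' hnt hlt
  have hc : (Setup.sl F k hk).mult ρ' 0 ≠ 0 := by
    refine mult_zero_ne hk (fun h => ⟨h32 (by omega), h34 (by omega)⟩) (fun h => ?_) _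
      (fun g => rfl) ρ' hm
    have := h42 (by omega)
    have := h43 (by omega)
    have := two_le_card (F := F)
    omega
  rcases hsmall with h | ⟨hq, hk2, -⟩ | ⟨hq, hk2, -⟩ | ⟨hq, hk2, -⟩
  · have hd := (Setup.sl F k hk).finrank_eq ρ'
    rw [hm] at hd
    have h' : ((finrank ℂ V : ℕ) : ℤ) + 1 = ((Fintype.card F ^ k : ℕ) : ℤ) := by exact_mod_cast h
    push_cast at h'
    refine hc ?_
    omega
  · exact h32 (by omega) hq
  · exact h34 (by omega) hq
  · exact h42 (by omega) hq

/-- The deleted permutation representation. -/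
theorem exists_degree (k : ℕ) (hk : 1 ≤ k) :
    ∃ ρ : Representation ℂ (Matrix.SpecialLinearGroup (Fin (k + 1)) F)
      (Fin (G (Fintype.card F) (k + 1) - 1) → ℂ), ρ.IsIrreducible := by
  classical
  haveI : Finite (ℙ F (Fin (k + 1) → F)) :=
    Finite.of_surjective (fun v : {v : Fin (k + 1) → F // v ≠ 0} => Projectivization.mk' F v)
      (fun p => ⟨⟨p.rep, p.rep_nonzero⟩, p.mk_rep⟩)
  have hcard : Nat.card (ℙ F (Fin (k + 1) → F)) = G (Fintype.card F) (k + 1) := by
    rw [Projectivization.card_of_finrank F (Fin (k + 1) → F) (n := k + 1) (by simp),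
      Nat.card_eq_fintype_card, G]
  have h2 : 2 ≤ Nat.card (ℙ F (Fin (k + 1) → F)) := by
    rw [hcard, G_succ']
    have : 2 ≤ Fintype.card F ^ k :=
      le_trans (two_le_card (F := F)) (Nat.le_self_pow (by omega) _)
    omega
  haveI : MulAction.IsPretransitive (Matrix.SpecialLinearGroup (Fin (k + 1)) F)
      (ℙ F (Fin (k + 1) → F)) :=
    MulAction.isPretransitive_of_is_two_pretransitive
  obtain ⟨n, σ, hσ, hσc⟩ :=
    (CfsgLib.Char.isIrrCharacter_permChar_sub_one_iff
      (G := Matrix.SpecialLinearGroup (Fin (k + 1)) F) (ℙ F (Fin (k + 1) → F)) h2).2 inferInstance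
  have h1 := congrFun hσc 1
  have hp1 : CfsgLib.Char.permChar (Matrix.SpecialLinearGroup (Fin (k + 1)) F)
      (ℙ F (Fin (k + 1) → F)) 1 = (Nat.card (ℙ F (Fin (k + 1) → F)) : ℂ) := by
    rw [CfsgLib.Char.permChar]
    congr 1
    exact Nat.card_congr (Equiv.subtypeUnivEquiv fun x => one_smul _ x)
  simp only [Representation.char_one, hp1, hcard, finrank_fin_fun] at h1
  have hn : n = G (Fintype.card F) (k + 1) - 1 := by
    have h1' : (n : ℤ) = (G (Fintype.card F) (k + 1) : ℤ) - 1 := by exact_mod_cast h1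
    omega
  exact hn ▸ ⟨σ, hσ⟩

end CfsgLib.SLMinDeg
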