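import Cfsg.Agent.Lib.Geo.SLMin.Basic
import Cfsg.Agent.Lib.Char.Central
import Cfsg.Agent.Lib.Char.Integral
import Mathlib.Analysis.Fourier.FiniteAbelian.PontryaginDuality

/-!
# Weights of the transvection group with a given centre

Owner: helper23. For a group between `SL` and `GL` on `F × Fᵏ`, a representation is split by the
characters of the transvections with centre the first coordinate vector.
-/

set_option autoImplicit false

namespace CfsgLib.SLMinDeg

open Module

/-- A group containing all maps of determinant one, with an embedding of `GL` of the complement. -/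
structure Setup (F : Type*) [Field F] (k : ℕ) where
  Γ : Subgroup (W F k ≃ₗ[F] W F k)
  mem_of_det : ∀ x, LinearEquiv.det x = 1 → x ∈ Γ
  a : (U F k ≃ₗ[F] U F k) →* Fˣ
  lev_mem : ∀ g, lev (a g) g ∈ Γ
  a_one : ∀ g, LinearEquiv.det g = 1 → a g = 1
  trans : ∀ u v : U F k, u ≠ 0 → v ≠ 0 → ∃ g, (((a g)⁻¹ : Fˣ) : F) • g u = v

variable {F : Type*} [Field F] {k : ℕ} (S : Setup F k)

namespace Setup

/-- The transvections with centre `e0`, inside the group. -/
def tauG (ψ : Dual F (U F k)) : S.Γ := ⟨tau ψ, S.mem_of_det _ (det_tau ψ)⟩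

theorem tauG_add (φ ψ : Dual F (U F k)) : S.tauG (φ + ψ) = S.tauG φ * S.tauG ψ :=
  Subtype.ext (tau_add φ ψ)

/-- The complement group, inside the group. -/
def iota : (U F k ≃ₗ[F] U F k) →* S.Γ where
  toFun g := ⟨lev (S.a g) g, S.lev_mem g⟩
  map_one' := Subtype.ext (by simp only [map_one]; exact lev_one)
  map_mul' g h := Subtype.ext (by simp only [map_mul]; exact lev_mul _ _ _ _)

theorem coe_iota (g : U F k ≃ₗ[F] U F k) :
    (S.iota g : W F k ≃ₗ[F] W F k) = lev (S.a g) g := rfl

/-- The action on weights. -/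
def act (g : U F k ≃ₗ[F] U F k) (u : U F k) : U F k := (((S.a g)⁻¹ : Fˣ) : F) • g u

theorem act_zero (g : U F k ≃ₗ[F] U F k) : S.act g 0 = 0 := by simp [act]

theorem act_of_det_one (g : U F k ≃ₗ[F] U F k) (hg : LinearEquiv.det g = 1) (u : U F k) :
    S.act g u = g u := by simp [act, S.a_one g hg]

/-- Conjugation moves the dual of the complement. -/
def dualMap (g : U F k ≃ₗ[F] U F k) (ψ : Dual F (U F k)) : Dual F (U F k) :=
  (S.a g : F) • (ψ ∘ₗ (g.symm : U F k →ₗ[F] U F k))

theorem dualMap_act (g : U F k ≃ₗ[F] U F k) (ψ : Dual F (U F k)) (u : U F k) :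
    S.dualMap g ψ (S.act g u) = ψ u := by
  simp [dualMap, act]

theorem dualMap_injective (g : U F k ≃ₗ[F] U F k) : Function.Injective (S.dualMap g) := by
  intro φ ψ h
  refine LinearMap.ext fun u => ?_
  rw [← S.dualMap_act g φ u, h, S.dualMap_act]

theorem iota_tauG (g : U F k ≃ₗ[F] U F k) (ψ : Dual F (U F k)) :
    S.iota g * S.tauG ψ = S.tauG (S.dualMap g ψ) * S.iota g :=
  Subtype.ext (lev_tau (S.a g) g ψ)

end Setup

/-- A fixed non-trivial additive character. -/
noncomputable def chi0 (F : Type*) [Field F] [Finite F] : AddChar F ℂ :=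
  (AddChar.exists_apply_ne_zero.2 (one_ne_zero : (1 : F) ≠ 0)).choose

theorem chi0_one [Finite F] : chi0 F 1 ≠ 1 :=
  (AddChar.exists_apply_ne_zero.2 (one_ne_zero : (1 : F) ≠ 0)).choose_spec

theorem sum_chi0_comp [Fintype F] {A : Type*} [AddCommGroup A] [Module F A] [Fintype A]
    (f : A →ₗ[F] F) (hf : f ≠ 0) : ∑ x, chi0 F (f x) = 0 := by
  obtain ⟨x, hx⟩ := DFunLike.ne_iff.1 hf
  refine AddChar.sum_eq_zero_of_ne_one (ψ := (chi0 F).compAddMonoidHom f.toAddMonoidHom) ?_
  intro h
  have h1 := congrArg (fun e : AddChar A ℂ => e ((f x)⁻¹ • x)) h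
  simp only [AddChar.compAddMonoidHom_apply, LinearMap.toAddMonoidHom_coe, map_smul,
    smul_eq_mul, inv_mul_cancel₀ hx, AddChar.one_apply] at h1
  exact chi0_one h1

variable [Fintype F]

noncomputable instance instFintypeDual : Fintype (Dual F (U F k)) :=
  @Fintype.ofFinite _ (Module.finite_of_finite F)

noncomputable instance instFintypeU : Fintype (U F k) := Fintype.ofFinite _

instance instFiniteGroup : Finite (W F k ≃ₗ[F] W F k) :=
  Finite.of_injective (fun g => (g : W F k → W F k)) DFunLike.coe_injective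

variable {V : Type*} [AddCommGroup V] [Module ℂ V] (ρ : Representation ℂ S.Γ V)

namespace Setup

/-- The number of transvections with centre `e0`, together with the identity. -/
noncomputable def N (F : Type*) [Field F] [Fintype F] (k : ℕ) : ℕ := Fintype.card (Dual F (U F k))

omit V in
theorem card_U : Fintype.card (U F k) = Fintype.card F ^ k := by
  rw [← Nat.card_eq_fintype_card, Nat.card_fun, Nat.card_fin, Nat.card_eq_fintype_card]

omit V in
theorem N_eq : (N F k) = Fintype.card F ^ k := by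
  rw [N, ← Nat.card_eq_fintype_card,
    Module.natCard_eq_pow_finrank (K := F), Subspace.dual_finrank_eq]
  simp

omit V in
theorem N_ne : ((N F k : ℕ) : ℂ) ≠ 0 :=
  Nat.cast_ne_zero.2 Fintype.card_ne_zero

/-- The projection onto the weight space of `u`. -/
noncomputable def E (u : U F k) : Module.End ℂ V :=
  ((N F k : ℕ) : ℂ)⁻¹ • ∑ ψ, chi0 F (-(ψ u)) • ρ (S.tauG ψ)

theorem tauG_mul_E (φ : Dual F (U F k)) (u : U F k) :
    ρ (S.tauG φ) * S.E ρ u = chi0 F (φ u) • S.E ρ u := by
  rw [E, mul_smul_comm, smul_comm (chi0 F (φ u))]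
  congr 1
  rw [Finset.mul_sum, Finset.smul_sum]
  refine Fintype.sum_equiv (Equiv.addLeft φ) _ _ fun ψ => ?_
  rw [mul_smul_comm, ← map_mul, ← S.tauG_add, Equiv.coe_addLeft, smul_smul,
    ← AddChar.map_add_eq_mul, LinearMap.add_apply, neg_add, ← add_assoc, add_neg_cancel,
    zero_add]

theorem sum_E : ∑ u, S.E ρ u = 1 := by
  classical
  simp only [E, ← Finset.smul_sum]
  rw [Finset.sum_comm, Finset.sum_eq_single (0 : Dual F (U F k))]
  · simp only [← Finset.sum_smul, LinearMap.zero_apply, neg_zero, AddChar.map_zero_eq_one,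
      Finset.sum_const, Finset.card_univ, nsmul_eq_mul, mul_one]
    have h0 : S.tauG 0 = 1 :=
      mul_left_cancel (a := S.tauG 0) (by rw [← S.tauG_add, add_zero, mul_one])
    rw [h0, map_one, smul_smul, card_U, ← N_eq, inv_mul_cancel₀ N_ne, one_smul]
  · intro ψ _ hψ
    rw [← Finset.sum_smul]
    have h : ∑ u : U F k, chi0 F (-(ψ u)) = 0 := sum_chi0_comp (-ψ) (neg_ne_zero.2 hψ)
    rw [h, zero_smul]
  · simp

theorem E_mul_E [DecidableEq F] (u v : U F k) :
    S.E ρ u * S.E ρ v = if u = v then S.E ρ v else 0 := by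
  conv_lhs => rw [E, smul_mul_assoc, Finset.sum_mul]
  simp only [smul_mul_assoc, S.tauG_mul_E, smul_smul, ← AddChar.map_add_eq_mul, ← Finset.sum_smul]
  by_cases h : u = v
  · subst h
    simp only [neg_add_cancel, AddChar.map_zero_eq_one, Finset.sum_const, Finset.card_univ,
      nsmul_eq_mul, mul_one, if_true]
    show (((N F k : ℕ) : ℂ)⁻¹ * (N F k : ℂ)) • S.E ρ u = _
    rw [inv_mul_cancel₀ N_ne, one_smul]
  · rw [if_neg h]
    have h' : (fun ψ : Dual F (U F k) => chi0 F (-(ψ u) + ψ v)) =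
        fun ψ => chi0 F (Dual.eval F (U F k) (v - u) ψ) := by
      funext ψ
      congr 1
      simp [sub_eq_neg_add]
    rw [h', sum_chi0_comp, mul_zero, zero_smul]
    intro h0
    obtain ⟨φ, hφ⟩ := exists_dual_eq (sub_ne_zero.2 (Ne.symm h)) (1 : F)
    have h1 : φ (v - u) = 0 := LinearMap.congr_fun h0 φ
    exact one_ne_zero (hφ.symm.trans h1)

theorem iota_mul_E (g : U F k ≃ₗ[F] U F k) (u : U F k) :
    ρ (S.iota g) * S.E ρ u = S.E ρ (S.act g u) * ρ (S.iota g) := by
  rw [E, E, mul_smul_comm, smul_mul_assoc, Finset.mul_sum, Finset.sum_mul]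
  congr 1
  refine Fintype.sum_equiv
    (Equiv.ofBijective _ (Finite.injective_iff_bijective.1 (S.dualMap_injective g))) _ _
    fun ψ => ?_
  rw [mul_smul_comm, smul_mul_assoc, Equiv.ofBijective_apply, S.dualMap_act, ← map_mul,
    ← map_mul, S.iota_tauG]

/-- The multiplicity of a weight. -/
noncomputable def mult (u : U F k) : ℕ := finrank ℂ (LinearMap.range (S.E ρ u))

variable [FiniteDimensional ℂ V]

theorem trace_E (u : U F k) : LinearMap.trace ℂ V (S.E ρ u) = S.mult ρ u := by
  have h : LinearMap.IsProj (LinearMap.range (S.E ρ u)) (S.E ρ u) :=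
    ⟨fun v => LinearMap.mem_range_self _ v, fun v hv => by
      obtain ⟨w, rfl⟩ := hv
      classical
      have := LinearMap.congr_fun (S.E_mul_E ρ u u) w
      rwa [if_pos rfl] at this⟩
  exact h.trace

theorem mult_act (g : U F k ≃ₗ[F] U F k) (u : U F k) :
    S.mult ρ (S.act g u) = S.mult ρ u := by
  have h1 : S.E ρ (S.act g u) = ρ (S.iota g) * (S.E ρ u * ρ (S.iota g⁻¹)) := by
    rw [← mul_assoc, S.iota_mul_E, mul_assoc, ← map_mul, ← map_mul, mul_inv_cancel, map_one,
      map_one, mul_one]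
  have h2 : LinearMap.trace ℂ V (S.E ρ (S.act g u)) = LinearMap.trace ℂ V (S.E ρ u) := by
    rw [h1, LinearMap.trace_mul_comm, mul_assoc, ← map_mul, ← map_mul, inv_mul_cancel, map_one,
      map_one, mul_one]
  rw [S.trace_E, S.trace_E] at h2
  exact_mod_cast h2

omit V in
theorem exists_ne [NeZero k] : ∃ u : U F k, u ≠ 0 :=
  ⟨fun _ => 1, fun h => one_ne_zero (congrFun h (⟨0, NeZero.pos k⟩ : Fin k))⟩

variable [NeZero k]

/-- The common multiplicity of the non-trivial weights. -/
noncomputable def m : ℕ := S.mult ρ (Setup.exists_ne (F := F) (k := k)).choose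

theorem mult_eq {u : U F k} (hu : u ≠ 0) : S.mult ρ u = S.m ρ := by
  obtain ⟨g, hg⟩ := S.trans _ u (Setup.exists_ne (F := F) (k := k)).choose_spec hu
  rw [m, ← hg]
  exact S.mult_act ρ g _

theorem character_tauG {φ : Dual F (U F k)} :
    ρ.character (S.tauG φ) = (S.mult ρ 0 : ℂ) +
      (S.m ρ : ℂ) * ((∑ u, chi0 F (φ u)) - 1) := by
  classical
  have h : ρ (S.tauG φ) = ∑ u, chi0 F (φ u) • S.E ρ u := by
    simp only [← S.tauG_mul_E, ← Finset.mul_sum, S.sum_E, mul_one]
  rw [Representation.character, h, map_sum]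
  simp only [map_smul, S.trace_E, smul_eq_mul]
  rw [← Finset.add_sum_erase _ _ (Finset.mem_univ (0 : U F k)), map_zero,
    AddChar.map_zero_eq_one, one_mul]
  congr 1
  rw [← Finset.add_sum_erase Finset.univ (fun u => chi0 F (φ u)) (Finset.mem_univ (0 : U F k)),
    map_zero, AddChar.map_zero_eq_one, add_sub_cancel_left, Finset.mul_sum]
  refine Finset.sum_congr rfl fun u hu => ?_
  rw [S.mult_eq ρ (Finset.ne_of_mem_erase hu), mul_comm]

theorem character_tauG_ne {φ : Dual F (U F k)} (hφ : φ ≠ 0) :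
    ρ.character (S.tauG φ) = (S.mult ρ 0 : ℂ) - (S.m ρ : ℂ) := by
  rw [S.character_tauG, sum_chi0_comp φ hφ]
  ring

theorem finrank_eq :
    (finrank ℂ V : ℤ) = S.mult ρ 0 + (Fintype.card F ^ k - 1 : ℤ) * S.m ρ := by
  have h := S.character_tauG ρ (φ := 0)
  have h0 : S.tauG 0 = 1 :=
    mul_left_cancel (a := S.tauG 0) (by rw [← S.tauG_add, add_zero, mul_one])
  rw [h0, Representation.char_one] at h
  simp only [LinearMap.zero_apply, AddChar.map_zero_eq_one, Finset.sum_const, Finset.card_univ,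
    nsmul_eq_mul, mul_one, card_U] at h
  have h' : ((finrank ℂ V : ℤ) : ℂ) =
      ((S.mult ρ 0 + (Fintype.card F ^ k - 1 : ℤ) * S.m ρ : ℤ) : ℂ) := by
    push_cast at h ⊢
    rw [h]
    ring
  exact_mod_cast h'

/-- Fixed vectors of the transvections with centre `e0`. -/
theorem mem_range_E_zero {v : V} :
    v ∈ LinearMap.range (S.E ρ 0) ↔ ∀ ψ, ρ (S.tauG ψ) v = v := by
  constructor
  · rintro ⟨w, rfl⟩ ψ
    have := LinearMap.congr_fun (S.tauG_mul_E ρ ψ 0) w
    simpa using this
  · intro h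
    refine ⟨v, ?_⟩
    rw [E, LinearMap.smul_apply, LinearMap.sum_apply]
    simp only [LinearMap.smul_apply, h, map_zero, neg_zero, AddChar.map_zero_eq_one, one_smul,
      Finset.sum_const, Finset.card_univ, ← Nat.cast_smul_eq_nsmul ℂ, smul_smul]
    show (((N F k : ℕ) : ℂ)⁻¹ * (N F k : ℂ)) • v = v
    rw [inv_mul_cancel₀ N_ne, one_smul]

/-- If no weight occurs, the maps of determinant one act trivially. -/
theorem apply_eq_one_of_m_zero (hm : S.m ρ = 0) (x : S.Γ)
    (hx : LinearEquiv.det (x : W F k ≃ₗ[F] W F k) = 1) : ρ x = 1 := by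
  classical
  have htau : ∀ ψ, ρ (S.tauG ψ) = 1 := fun ψ => by
    have hE : ∀ u : U F k, u ≠ 0 → S.E ρ u = 0 := fun u hu => by
      have := S.mult_eq ρ hu
      rw [hm, mult, Submodule.finrank_eq_zero, LinearMap.range_eq_bot] at this
      exact this
    have h1 := S.sum_E ρ
    rw [Finset.sum_eq_single (0 : U F k) (fun u _ hu => hE u hu) (by simp)] at h1
    have h2 := S.tauG_mul_E ρ ψ 0
    rwa [h1, mul_one, map_zero, AddChar.map_zero_eq_one, one_smul] at h2
  let H : Subgroup (W F k ≃ₗ[F] W F k) :=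
    (MonoidHom.ker ρ).map S.Γ.subtype
  have hmem : (x : W F k ≃ₗ[F] W F k) ∈ H := by
    refine det_one_mem_of_transvections (by simp; have := NeZero.pos k; omega) H ?_ _ hx
    intro f v hfv
    by_cases hv : v = 0
    · subst hv
      have : LinearEquiv.transvection hfv = 1 := by
        rw [LinearEquiv.transvection.of_right_eq_zero]; rfl
      rw [this]
      exact one_mem H
    obtain ⟨g, hgd, hg⟩ := exists_det_one_map hv
    subst hg
    let gG : S.Γ := ⟨g, S.mem_of_det _ hgd⟩
    let ψ : Dual F (U F k) := (f ∘ₗ (g : W F k →ₗ[F] W F k)) ∘ₗ LinearMap.inr F F (U F k)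
    refine ⟨gG * S.tauG ψ * gG⁻¹, ?_, ?_⟩
    · show ρ (gG * S.tauG ψ * gG⁻¹) = 1
      rw [map_mul, map_mul, htau, mul_one, ← map_mul, mul_inv_cancel, map_one]
    · show g * tau ψ * g⁻¹ = _
      rw [tau, conj_transvection]
      refine LinearEquiv.ext fun y => ?_
      rw [LinearEquiv.transvection.apply, LinearEquiv.transvection.apply]
      congr 1
      congr 1
      show f (g (0, (g.symm y).2)) = f y
      have h2 : g.symm y = (g.symm y).1 • e0 + ((0 : F), (g.symm y).2) := by
        simp [e0]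
      calc f (g (0, (g.symm y).2)) = f (g ((g.symm y).1 • e0 + ((0 : F), (g.symm y).2))) := by
            rw [map_add, map_add, map_smul, map_smul, hfv, smul_zero, zero_add]
        _ = f y := by rw [← h2, LinearEquiv.apply_symm_apply]
  obtain ⟨y, hy, hyx⟩ := hmem
  have : y = x := Subtype.ext hyx
  exact this ▸ hy

end Setup

end CfsgLib.SLMinDeg
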