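import Cfsg.Agent.Lib.Geo.SLMin.Parabolic

/-!
# Divisibility facts for the smallest degree of `SL`

Owner: helper23.
-/

set_option autoImplicit false

namespace CfsgLib.SLMinDeg

variable {q : ℕ}

theorem G_lt_pow (hq : 2 ≤ q) (k : ℕ) : G q k + 1 ≤ q ^ k := by
  induction k with
  | zero => simp [G]
  | succ k ih =>
    rw [G_succ', pow_succ]
    have : q ^ k * 2 ≤ q ^ k * q := Nat.mul_le_mul_left _ hq
    omega

theorem G_mul_pred (q k : ℕ) : (G q k : ℤ) * ((q : ℤ) - 1) = (q : ℤ) ^ k - 1 := by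
  simp only [G, Nat.cast_sum, Nat.cast_pow]
  exact geom_sum_mul _ _

/-- The case of the fixed space of the degree of the deleted permutation representation. -/
theorem not_dvd_deleted (hq : 2 ≤ q) {k c d : ℕ} (hk : 2 ≤ k) (hc : c + 1 = G q k)
    (hd : d + 1 = q ^ k + c) : ¬ d ∣ q ^ k * G q (k + 1) * c := by
  intro h
  have hG : q + 1 ≤ G q k := by
    have h1 : G q 2 = q + 1 := by simp [G, Finset.sum_range_succ, add_comm]
    rw [← h1]
    exact Finset.sum_le_sum_of_subset (Finset.range_subset_range.2 hk)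
  have hd2 : G q (k + 1) = d + 2 := by rw [G_succ']; omega
  have hd1 : q * G q k = d + 1 := by have := G_succ q k; omega
  have hcop : Nat.Coprime d (q ^ k) := by
    refine Nat.Coprime.pow_right k ?_
    have h1 : Nat.Coprime d (d + 1) := Nat.coprime_self_add_right.2 (Nat.coprime_one_right d)
    rw [← hd1] at h1
    exact Nat.Coprime.coprime_mul_right_right h1
  rw [mul_assoc] at h
  have h2 := hcop.dvd_of_dvd_mul_left h
  rw [hd2, add_mul] at h2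
  have h3 : d ∣ 2 * c := (Nat.dvd_add_right (Dvd.intro c rfl)).1 h2
  have h4 : 2 * G q k ≤ q * G q k := Nat.mul_le_mul_right _ hq
  have := Nat.le_of_dvd (by omega) h3
  omega

/-- The case of an exceptional fixed space on `F × F²`. -/
theorem exceptional_two (hq : 2 ≤ q) (hten : q ≠ 10) {c d : ℕ} (hc : c + 1 = q)
    (hd : d + 1 = q ^ 2 + c) (h : d ∣ q ^ 2 * G q 3 * c) :
    (q = 2 ∧ d = 4) ∨ (q = 4 ∧ d = 18) := by
  have hd' : d = (q + 2) * c := by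
    have : q ^ 2 + q = (q + 2) * c + 2 + 0 := by subst hc; ring
    omega
  have hG : G q 3 = q ^ 2 + q + 1 := by simp [G, Finset.sum_range_succ]; ring
  rw [hd', hG] at h
  have h1 : q + 2 ∣ q ^ 2 * (q ^ 2 + q + 1) := Nat.dvd_of_mul_dvd_mul_right (by omega) h
  have h2 : ((q + 2 : ℕ) : ℤ) ∣ ((q ^ 2 * (q ^ 2 + q + 1) : ℕ) : ℤ) := Int.natCast_dvd_natCast.2 h1
  push_cast at h2
  have h3 : ((q : ℤ) + 2) ∣ ((q : ℤ) + 2) * ((q : ℤ) ^ 3 - q ^ 2 + 3 * q - 6) := dvd_mul_right _ _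
  have h4 := dvd_sub h2 h3
  have h5 : ((q : ℤ) + 2) ∣ 12 := by
    refine Eq.subst (motive := fun x => ((q : ℤ) + 2) ∣ x) ?_ h4
    ring
  have h6 : q + 2 ∣ 12 := by exact_mod_cast h5
  have := Nat.le_of_dvd (by omega) h6
  have hq10 : q ≤ 10 := by omega
  interval_cases q <;> omega

/-- The case of an exceptional fixed space on `F × Fᵏ`, `k ≥ 3`. -/
theorem exceptional_large (hq : 2 ≤ q) {j c d : ℕ} (hc : c + 1 = q ^ (j + 2))
    (hd : d + 1 = q ^ (j + 3) + c) (h : d ∣ q ^ (j + 3) * G q (j + 4) * c) :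
    q = 2 ∧ j = 0 ∧ d = 10 := by
  set M := q ^ (j + 2) with hM
  have hM4 : 4 ≤ M := by
    calc 4 = 2 ^ 2 := by norm_num
      _ ≤ q ^ 2 := Nat.pow_le_pow_left hq 2
      _ ≤ M := Nat.pow_le_pow_right (by omega) (by omega)
  have hNM : q ^ (j + 3) = q * M := by rw [hM, ← pow_succ']
  have hd2 : d + 2 = (q + 1) * M := by rw [add_mul, one_mul]; omega
  have hg : Nat.gcd d (q ^ (j + 3)) ∣ 2 := by
    set g := Nat.gcd d (q ^ (j + 3))
    have hg1 : g ∣ d := Nat.gcd_dvd_left _ _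
    have hg2 : g ∣ q ^ (j + 3) := Nat.gcd_dvd_right _ _
    have h2q : g ∣ 2 * q := by
      have ha : g ∣ q * (d + 2) := by
        rw [hd2, show q * ((q + 1) * M) = (q + 1) * q ^ (j + 3) by rw [hNM]; ring]
        exact Dvd.dvd.mul_left hg2 _
      rw [mul_add, mul_comm q 2] at ha
      exact (Nat.dvd_add_right (hg1.mul_left q)).1 ha
    have heven : 2 * q ∣ (q + 1) * M := by
      obtain ⟨t, ht⟩ : 2 ∣ q * (q + 1) := Nat.Prime.dvd_mul Nat.prime_two |>.2 (by omega)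
      refine ⟨t * q ^ j, ?_⟩
      rw [hM, show (q + 1) * q ^ (j + 2) = (q * (q + 1)) * (q * q ^ j) by ring, ht]
      ring
    have hb : g ∣ d + 2 := hd2 ▸ h2q.trans heven
    exact (Nat.dvd_add_right hg1).1 hb
  rw [mul_assoc] at h
  have h1 : d ∣ 2 * (G q (j + 4) * c) :=
    (Nat.dvd_gcd_mul_iff_dvd_mul.2 h).trans (Nat.mul_dvd_mul_right hg _)
  have h2 : (d : ℤ) ∣ ((2 * (G q (j + 4) * c) : ℕ) : ℤ) := Int.natCast_dvd_natCast.2 h1
  push_cast at h2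
  have hcz : (c : ℤ) = (M : ℤ) - 1 := by omega
  have hdz : (d : ℤ) = ((q : ℤ) + 1) * M - 2 := by
    have : ((d + 2 : ℕ) : ℤ) = (((q + 1) * M : ℕ) : ℤ) := by rw [hd2]
    push_cast at this
    linarith
  have hGz := G_mul_pred q (j + 4)
  have hq2M : ((q : ℤ) ^ (j + 4)) = (q : ℤ) ^ 2 * M := by rw [hM]; push_cast; ring
  have h3 : (d : ℤ) ∣ 2 * (((q : ℤ) - 1) ^ 2 * (2 * q + 1)) := by
    have ha : (d : ℤ) ∣ 2 * ((G q (j + 4) : ℤ) * c) * (((q : ℤ) - 1) * ((q : ℤ) + 1) ^ 2) :=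
      Dvd.dvd.mul_right h2 _
    have hb : (d : ℤ) ∣ d * (2 * ((q : ℤ) ^ 2 * (d + 4) - (q : ℤ) ^ 2 * (q + 1) - (q + 1))) :=
      dvd_mul_right _ _
    have h4 := dvd_sub ha hb
    rw [← dvd_neg]
    refine Eq.subst (motive := fun x => (d : ℤ) ∣ x) ?_ h4
    have hGz' : (G q (j + 4) : ℤ) * ((q : ℤ) - 1) = (q : ℤ) ^ 2 * M - 1 := by rw [hGz, hq2M]
    rw [hcz, hdz]
    linear_combination 2 * ((M : ℤ) - 1) * ((q : ℤ) + 1) ^ 2 * hGz'
  have h4 : d ∣ 2 * ((q - 1) ^ 2 * (2 * q + 1)) := by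
    have : (((2 * ((q - 1) ^ 2 * (2 * q + 1)) : ℕ)) : ℤ) = 2 * (((q : ℤ) - 1) ^ 2 * (2 * q + 1)) := by
      push_cast [Nat.cast_sub (show 1 ≤ q by omega)]
      ring
    rw [← this] at h3
    exact Int.natCast_dvd_natCast.1 h3
  have hpos : 0 < 2 * ((q - 1) ^ 2 * (2 * q + 1)) := by
    have : 0 < q - 1 := by omega
    positivity
  have hle := Nat.le_of_dvd hpos h4
  rcases Nat.eq_zero_or_pos j with hj | hj
  · subst hj
    have hd' : d = (q - 1) * (q ^ 2 + 2 * q + 2) := by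
      obtain ⟨r, rfl⟩ := Nat.exists_eq_add_of_le (show 1 ≤ q by omega)
      rw [Nat.add_sub_cancel_left]
      have : (1 + r + 1) * (1 + r) ^ 2 = r * ((1 + r) ^ 2 + 2 * (1 + r) + 2) + 2 := by ring
      have hM' : M = (1 + r) ^ 2 := by rw [hM]
      rw [hM', this] at hd2
      omega
    rw [hd', show 2 * ((q - 1) ^ 2 * (2 * q + 1)) = (q - 1) * (2 * ((q - 1) * (2 * q + 1))) by ring]
      at h4
    have h5 := Nat.dvd_of_mul_dvd_mul_left (show 0 < q - 1 by omega) h4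
    have h6 : (((q ^ 2 + 2 * q + 2 : ℕ)) : ℤ) ∣ ((2 * ((q - 1) * (2 * q + 1)) : ℕ) : ℤ) :=
      Int.natCast_dvd_natCast.2 h5
    push_cast [Nat.cast_sub (show 1 ≤ q by omega)] at h6
    have h7 : (q : ℤ) ^ 2 + 2 * q + 2 ∣ 10 := by
      have ha := dvd_sub ((dvd_mul_right ((q : ℤ) ^ 2 + 2 * q + 2) 4)) h6
      -- `4 * X - Y = 10 * (q + 1)`, and `X` is prime to `q + 1`
      have hb : (q : ℤ) ^ 2 + 2 * q + 2 ∣ 10 * ((q : ℤ) + 1) := by
        refine Eq.subst (motive := fun x => ((q : ℤ) ^ 2 + 2 * q + 2) ∣ x) ?_ ha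
        ring
      have hc2 := dvd_sub (dvd_mul_right ((q : ℤ) ^ 2 + 2 * q + 2) 10)
        (Dvd.dvd.mul_right hb ((q : ℤ) + 1))
      refine Eq.subst (motive := fun x => ((q : ℤ) ^ 2 + 2 * q + 2) ∣ x) ?_ hc2
      ring
    have := Int.le_of_dvd (by norm_num) h7
    have hq3 : q = 2 := by
      by_contra hne
      have hq' : (3 : ℤ) ≤ q := by exact_mod_cast (show 3 ≤ q by omega)
      nlinarith
    refine ⟨hq3, rfl, ?_⟩
    rw [hd', hq3]; norm_num
  · exfalso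
    have hM3 : q ^ 3 ≤ M := Nat.pow_le_pow_right (by omega) (by omega)
    have h5 : (q + 1) * q ^ 3 ≤ d + 2 := hd2 ▸ Nat.mul_le_mul_left _ hM3
    have h6 : (((q + 1) * q ^ 3 : ℕ) : ℤ) ≤ ((2 * ((q - 1) ^ 2 * (2 * q + 1)) + 2 : ℕ) : ℤ) := by
      exact_mod_cast (by omega : (q + 1) * q ^ 3 ≤ 2 * ((q - 1) ^ 2 * (2 * q + 1)) + 2)
    push_cast [Nat.cast_sub (show 1 ≤ q by omega)] at h6
    have hq' : (2 : ℤ) ≤ q := by exact_mod_cast hq
    nlinarith [mul_nonneg (mul_nonneg (sub_nonneg.2 hq') (sub_nonneg.2 hq')) (sq_nonneg (q : ℤ)),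
      mul_nonneg (sub_nonneg.2 hq') (sq_nonneg ((q : ℤ) - 3)), sq_nonneg ((q : ℤ) - 2)]

end CfsgLib.SLMinDeg
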