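import Mathlib.LinearAlgebra.Transvection.Basic
import Mathlib.LinearAlgebra.SpecialLinearGroup
import Mathlib.LinearAlgebra.Determinant
import Cfsg.Agent.Lib.Classical.SLGroup

/-!
# `GL` and `SL` of `F × Fᵏ` around the first coordinate line

Owner: helper23. Part of the proof of the smallest non-linear degree of `SL n q`.
-/

set_option autoImplicit false

namespace CfsgLib.SLMinDeg

open Module

variable (F : Type*) [Field F]

/-- `Fᵏ`. -/
abbrev U (k : ℕ) : Type _ := Fin k → F

/-- `F × Fᵏ`. -/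
abbrev W (k : ℕ) : Type _ := F × (Fin k → F)

variable {F} {k : ℕ}

/-- The first coordinate vector. -/
def e0 : W F k := (1, 0)

theorem e0_ne : (e0 : W F k) ≠ 0 := by simp [e0, Prod.ext_iff]

/-- The linear form on `W` given by a form on `U`. -/
def ext (ψ : Dual F (U F k)) : Dual F (W F k) := ψ ∘ₗ LinearMap.snd F F (U F k)

theorem ext_apply (ψ : Dual F (U F k)) (x : W F k) : ext ψ x = ψ x.2 := rfl

theorem ext_e0 (ψ : Dual F (U F k)) : ext ψ e0 = 0 := by simp [ext_apply, e0]

/-- The transvections with centre `e0`. -/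
def tau (ψ : Dual F (U F k)) : W F k ≃ₗ[F] W F k := LinearEquiv.transvection (ext_e0 ψ)

theorem tau_apply (ψ : Dual F (U F k)) (x : W F k) : tau ψ x = (x.1 + ψ x.2, x.2) := by
  rw [tau, LinearEquiv.transvection.apply]
  refine Prod.ext ?_ ?_ <;> simp [ext_apply, e0]

theorem tau_add (φ ψ : Dual F (U F k)) : tau (φ + ψ) = tau φ * tau ψ := by
  refine LinearEquiv.ext fun x => ?_
  rw [LinearEquiv.mul_apply, tau_apply, tau_apply, tau_apply]
  refine Prod.ext ?_ rfl
  show x.1 + (φ x.2 + ψ x.2) = x.1 + ψ x.2 + φ x.2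
  ring

theorem det_transvection {V : Type*} [AddCommGroup V] [Module F V] [FiniteDimensional F V]
    {f : Dual F V} {v : V} (h : f v = 0) : LinearEquiv.det (LinearEquiv.transvection h) = 1 := by
  rw [← Units.val_inj, LinearEquiv.coe_det, LinearEquiv.transvection.coe_toLinearMap,
    LinearMap.transvection.det, h, add_zero, Units.val_one]

theorem det_tau (ψ : Dual F (U F k)) : LinearEquiv.det (tau ψ) = 1 := det_transvection _

/-- The block diagonal maps. -/
def lev (δ : Fˣ) (g : U F k ≃ₗ[F] U F k) : W F k ≃ₗ[F] W F k :=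
  LinearEquiv.prodCongr (LinearEquiv.smulOfUnit δ) g

theorem lev_apply (δ : Fˣ) (g : U F k ≃ₗ[F] U F k) (x : W F k) :
    lev δ g x = ((δ : F) * x.1, g x.2) := rfl

theorem lev_mul (δ δ' : Fˣ) (g g' : U F k ≃ₗ[F] U F k) :
    lev (δ * δ') (g * g') = lev δ g * lev δ' g' := by
  refine LinearEquiv.ext fun x => ?_
  rw [LinearEquiv.mul_apply, lev_apply, lev_apply, lev_apply]
  refine Prod.ext ?_ rfl
  show ((δ : F) * δ') * x.1 = δ * (δ' * x.1)
  ring

theorem lev_one : lev (1 : Fˣ) (1 : U F k ≃ₗ[F] U F k) = 1 := by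
  refine LinearEquiv.ext fun x => ?_
  rw [lev_apply, Units.val_one, one_mul]; rfl

theorem det_lev (δ : Fˣ) (g : U F k ≃ₗ[F] U F k) :
    LinearEquiv.det (lev δ g) = δ * LinearEquiv.det g := by
  rw [← Units.val_inj, LinearEquiv.coe_det, Units.val_mul, LinearEquiv.coe_det]
  have h : ((lev δ g : W F k ≃ₗ[F] W F k) : W F k →ₗ[F] W F k) =
      LinearMap.prodMap ((δ : F) • LinearMap.id) (g : U F k →ₗ[F] U F k) :=
    LinearMap.ext fun x => rfl
  rw [h, LinearMap.det_prodMap, LinearMap.det_smul]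
  simp

/-- Conjugation by block diagonal maps. -/
theorem lev_tau (δ : Fˣ) (g : U F k ≃ₗ[F] U F k) (ψ : Dual F (U F k)) :
    lev δ g * tau ψ = tau ((δ : F) • (ψ ∘ₗ (g.symm : U F k →ₗ[F] U F k))) * lev δ g := by
  refine LinearEquiv.ext fun x => ?_
  rw [LinearEquiv.mul_apply, LinearEquiv.mul_apply, tau_apply, tau_apply, lev_apply, lev_apply]
  refine Prod.ext ?_ rfl
  show (δ : F) * (x.1 + ψ x.2) = δ * x.1 + δ * ψ (g.symm (g x.2))
  rw [LinearEquiv.symm_apply_apply]
  ring

/-- Conjugates of transvections. -/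
theorem conj_transvection {V : Type*} [AddCommGroup V] [Module F V] (g : V ≃ₗ[F] V)
    {f : Dual F V} {v : V} (h : f v = 0) :
    g * LinearEquiv.transvection h * g⁻¹ =
      LinearEquiv.transvection (f := f ∘ₗ (g.symm : V →ₗ[F] V)) (v := g v) (by simp [h]) := by
  refine LinearEquiv.ext fun x => ?_
  rw [LinearEquiv.mul_apply, LinearEquiv.mul_apply, LinearEquiv.transvection.apply,
    LinearEquiv.transvection.apply]
  show g (g.symm x + f (g.symm x) • v) = x + f (g.symm x) • g v
  rw [map_add, map_smul, LinearEquiv.apply_symm_apply]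

/-- Moving a vector by a transvection. -/
theorem exists_move {V : Type*} [AddCommGroup V] [Module F V] [FiniteDimensional F V]
    (f : Dual F V) {x y : V} (hx : f x = 1) (hxy : f (y - x) = 0) :
    ∃ g : V ≃ₗ[F] V, LinearEquiv.det g = 1 ∧ g x = y :=
  ⟨LinearEquiv.transvection hxy, det_transvection _, by
    rw [LinearEquiv.transvection.apply, hx, one_smul, add_sub_cancel]⟩

theorem exists_dual_eq {k : ℕ} {u : U F k} (hu : u ≠ 0) (c : F) :
    ∃ ψ : Dual F (U F k), ψ u = c := by
  obtain ⟨i, hi⟩ := Function.ne_iff.1 hu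
  refine ⟨(c * (u i)⁻¹) • LinearMap.proj i, ?_⟩
  show c * (u i)⁻¹ * u i = c
  rw [inv_mul_cancel_right₀]
  exact hi

/-- The maps of determinant one are transitive on nonzero vectors. -/
theorem exists_det_one_map [NeZero k] {x : W F k} (hx : x ≠ 0) :
    ∃ g : W F k ≃ₗ[F] W F k, LinearEquiv.det g = 1 ∧ g e0 = x := by
  have h1 : ∀ y : W F k, y.2 ≠ 0 →
      ∃ g : W F k ≃ₗ[F] W F k, LinearEquiv.det g = 1 ∧ g e0 = y := fun y hy => by
    obtain ⟨ψ, hψ⟩ := exists_dual_eq hy (1 - y.1)
    refine exists_move (LinearMap.fst F F (U F k) + ext ψ) ?_ ?_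
    · simp [ext_apply, e0]
    · simp [ext_apply, e0, hψ]
  by_cases hu : x.2 = 0
  · have ha : x.1 ≠ 0 := fun h => hx (Prod.ext h hu)
    obtain ⟨u₀, hu₀⟩ : ∃ u : U F k, u ≠ 0 :=
      ⟨fun _ => 1, fun h => one_ne_zero (congrFun h (⟨0, NeZero.pos k⟩ : Fin k))⟩
    obtain ⟨g₁, hd₁, hg₁⟩ := h1 (0, u₀) hu₀
    obtain ⟨ψ, hψ⟩ := exists_dual_eq hu₀ 1
    obtain ⟨g₂, hd₂, hg₂⟩ := exists_move (x := x) (y := ((0 : F), u₀))
      ((x.1)⁻¹ • LinearMap.fst F F (U F k) + ext ψ) (by simp [ext_apply, hu, ha])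
      (by simp [ext_apply, hu, hψ, ha])
    refine ⟨g₂⁻¹ * g₁, by rw [map_mul, map_inv, hd₁, hd₂, inv_one, one_mul], ?_⟩
    rw [LinearEquiv.mul_apply, hg₁, ← hg₂]
    exact g₂.symm_apply_apply x
  · exact h1 x hu

/-- The maps of determinant one are generated by transvections. -/
theorem det_one_mem_of_transvections {V : Type*} [AddCommGroup V] [Module F V]
    [FiniteDimensional F V] (hV : 2 ≤ finrank F V) (H : Subgroup (V ≃ₗ[F] V))
    (h : ∀ (f : Dual F V) (v : V) (hfv : f v = 0), LinearEquiv.transvection hfv ∈ H)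
    (g : V ≃ₗ[F] V) (hg : LinearEquiv.det g = 1) : g ∈ H := by
  classical
  haveI : Nontrivial (Fin (finrank F V)) := Fin.nontrivial_iff_two_le.2 hV
  set b := finBasis F V
  let S : Subgroup (_root_.SpecialLinearGroup F V) :=
    { carrier := {s | (s : V ≃ₗ[F] V) ∈ H}
      one_mem' := H.one_mem
      mul_mem' := fun ha hb => H.mul_mem ha hb
      inv_mem' := fun ha => H.inv_mem ha }
  have htop : S.comap (Matrix.SpecialLinearGroup.toLin_equiv b).toMonoidHom = ⊤ := by
    refine CfsgLib.Classical.closure_transvection_eq_top _ fun i j hij c => ?_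
    rw [Subgroup.mem_comap]
    show ((Matrix.SpecialLinearGroup.toLin_equiv b
      (Matrix.SpecialLinearGroup.transvection hij c) : _root_.SpecialLinearGroup F V) :
        V ≃ₗ[F] V) ∈ H
    have hfv : ((c • b.coord j : Dual F V)) (b i) = 0 := by simp [hij]
    convert h _ _ hfv
    refine LinearEquiv.toLinearMap_injective ?_
    rw [Matrix.SpecialLinearGroup.toLin_equiv.toLinearMap_eq]
    refine b.ext fun l => ?_
    rw [Matrix.toLin_self, LinearEquiv.coe_coe, LinearEquiv.transvection.apply]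
    simp only [Matrix.SpecialLinearGroup.transvection_coe, Matrix.add_apply,
      Matrix.one_apply, Matrix.single_apply, add_smul, Finset.sum_add_distrib]
    refine congrArg₂ (· + ·) (by simp) ?_
    rcases eq_or_ne j l with rfl | hl
    · simp
    · simp [hl, Ne.symm hl]
  obtain ⟨m, hm⟩ := (Matrix.SpecialLinearGroup.toLin_equiv b).surjective ⟨g, hg⟩
  have hm' : m ∈ S.comap (Matrix.SpecialLinearGroup.toLin_equiv b).toMonoidHom := by
    rw [htop]; trivial
  have h' : (Matrix.SpecialLinearGroup.toLin_equiv b m) ∈ S := hm'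
  rw [hm] at h'
  exact h'

end CfsgLib.SLMinDeg
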