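import Cfsg.Agent.Lib.Char.Perm
import Cfsg.Agent.Lib.Char.Induced

/-!
# Linear characters of a point stabiliser in a 2-transitive group

Owner: helper23. A character induced from a linear character of a point stabiliser of a 2-transitive
group has at most two irreducible constituents.
-/

set_option autoImplicit false

namespace CfsgLib.SLMinDeg

open Module CfsgLib.Char
open scoped ComplexConjugate

section Eigen

variable {H : Type*} [Group H] [Fintype H] {V : Type*} [AddCommGroup V] [Module ℂ V]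
  [FiniteDimensional ℂ V] (ρ : Representation ℂ H V) (θ : H →* ℂˣ)

theorem conj_linear (h : H) : conj ((θ h : ℂˣ) : ℂ) = ((θ h⁻¹ : ℂˣ) : ℂ) :=
  (IsIrr.map_inv (isIrrCharacter_linear θ) h).symm

/-- The averaging operator onto the eigenvectors for a linear character. -/
noncomputable def eigProj : Module.End ℂ V :=
  (Nat.card H : ℂ)⁻¹ • ∑ h, ((θ h⁻¹ : ℂˣ) : ℂ) • ρ h

theorem apply_eigProj (g : H) (v : V) :
    ρ g (eigProj ρ θ v) = ((θ g : ℂˣ) : ℂ) • eigProj ρ θ v := by
  simp only [eigProj, LinearMap.smul_apply, LinearMap.sum_apply, map_smul, map_sum,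
    smul_comm ((θ g : ℂˣ) : ℂ) ((Nat.card H : ℂ)⁻¹), Finset.smul_sum]
  refine Fintype.sum_equiv (Equiv.mulLeft g) _ _ fun h => ?_
  simp only [LinearMap.smul_apply, Equiv.coe_mulLeft, map_mul, Module.End.mul_apply, map_smul,
    smul_smul, ← Units.val_mul, ← map_mul, mul_inv_rev]
  refine congrArg₂ (fun (a : ℂ) (w : V) => a • w) ?_ ?_
  · simp only [map_mul, map_inv, mul_left_comm (θ g), mul_inv_cancel, mul_one]
  · rw [← Module.End.mul_apply, ← map_mul]

theorem eigProj_apply_of_eigen {v : V} (hv : ∀ h, ρ h v = ((θ h : ℂˣ) : ℂ) • v) :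
    eigProj ρ θ v = v := by
  simp only [eigProj, LinearMap.smul_apply, LinearMap.sum_apply, hv, smul_smul, ← Units.val_mul,
    ← map_mul, inv_mul_cancel, map_one, Units.val_one, one_smul, Finset.sum_const,
    Finset.card_univ, Nat.card_eq_fintype_card, ← Nat.cast_smul_eq_nsmul ℂ]
  rw [inv_mul_cancel₀ (Nat.cast_ne_zero.2 Fintype.card_ne_zero), one_smul]

theorem trace_eigProj :
    LinearMap.trace ℂ V (eigProj ρ θ) =
      conj (Cfsg.classInner (fun h => ((θ h : ℂˣ) : ℂ)) ρ.character) := by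
  simp only [eigProj, map_smul, map_sum, smul_eq_mul, Cfsg.classInner, map_mul, map_inv₀,
    map_natCast, RingHomCompTriple.comp_apply, RingHom.id_apply, conj_linear]
  rfl

/-- An eigenvector gives a non-zero inner product. -/
theorem classInner_ne_zero_of_eigen {v : V} (hv0 : v ≠ 0)
    (hv : ∀ h, ρ h v = ((θ h : ℂˣ) : ℂ) • v) :
    Cfsg.classInner (fun h => ((θ h : ℂˣ) : ℂ)) ρ.character ≠ 0 := by
  intro h0
  have h1 := trace_eigProj ρ θ
  rw [h0, map_zero] at h1
  have hp : LinearMap.IsProj (LinearMap.range (eigProj ρ θ)) (eigProj ρ θ) :=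
    ⟨fun w => LinearMap.mem_range_self _ w, fun w hw => by
      obtain ⟨u, rfl⟩ := hw
      exact eigProj_apply_of_eigen ρ θ fun h => apply_eigProj ρ θ h u⟩
  rw [hp.trace, Nat.cast_eq_zero, Submodule.finrank_eq_zero, LinearMap.range_eq_bot] at h1
  rw [← eigProj_apply_of_eigen ρ θ hv, h1] at hv0
  exact hv0 rfl

/-- A non-zero inner product gives an eigenvector. -/
theorem exists_eigen_of_classInner_ne_zero
    (h : Cfsg.classInner (fun h => ((θ h : ℂˣ) : ℂ)) ρ.character ≠ 0) :
    ∃ v : V, v ≠ 0 ∧ ∀ h, ρ h v = ((θ h : ℂˣ) : ℂ) • v := by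
  have h1 : eigProj ρ θ ≠ 0 := fun h0 => by
    have := trace_eigProj ρ θ
    rw [h0, map_zero] at this
    exact h ((map_eq_zero_iff (conj : ℂ →+* ℂ) star_injective).1 this.symm)
  obtain ⟨v, hv⟩ := DFunLike.ne_iff.1 h1
  exact ⟨_, hv, fun g => apply_eigProj ρ θ g v⟩

end Eigen

variable {G : Type*} [Group G] [Fintype G] {X : Type*} [MulAction G X] [Finite X]
  [MulAction.IsPretransitive G X] (x₀ : X)

/-- The induced trivial character is the permutation character. -/
theorem indFun_one_eq_permChar (g : G) :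
    Cfsg.indFun (MulAction.stabilizer G x₀) (fun _ => (1 : ℂ)) g = permChar G X g := by
  classical
  have := Fintype.ofFinite X
  have := Fintype.ofFinite (MulAction.stabilizer G x₀)
  have hext : ∀ x : G, Cfsg.extendByZero (MulAction.stabilizer G x₀) (fun _ => (1 : ℂ))
      (x⁻¹ * g * x) = if g • (x • x₀) = x • x₀ then 1 else 0 := fun x => by
    have hiff : x⁻¹ * g * x ∈ MulAction.stabilizer G x₀ ↔ g • (x • x₀) = x • x₀ := by
      rw [MulAction.mem_stabilizer_iff, mul_smul, mul_smul, inv_smul_eq_iff]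
    by_cases hx : x⁻¹ * g * x ∈ MulAction.stabilizer G x₀
    · rw [extendByZero_of_mem _ _ hx, if_pos (hiff.1 hx)]
    · rw [extendByZero_of_notMem _ _ hx, if_neg fun h => hx (hiff.2 h)]
  have hfib : ∀ y : X, (Finset.univ.filter fun x : G => x • x₀ = y).card =
      Nat.card (MulAction.stabilizer G x₀) := fun y => by
    obtain ⟨a, rfl⟩ := MulAction.exists_smul_eq G x₀ y
    rw [← Fintype.card_subtype, ← Nat.card_eq_fintype_card]
    exact Nat.card_congr
      { toFun := fun x => ⟨a⁻¹ * x.1, by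
          rw [MulAction.mem_stabilizer_iff, mul_smul, x.2, inv_smul_smul]⟩
        invFun := fun p => ⟨a * p.1, by
          have hp : p.1 • x₀ = x₀ := MulAction.mem_stabilizer_iff.1 p.2
          rw [mul_smul, hp]⟩
        left_inv := fun x => Subtype.ext (mul_inv_cancel_left a x.1)
        right_inv := fun p => Subtype.ext (inv_mul_cancel_left a p.1) }
  simp only [Cfsg.indFun, hext]
  rw [← Finset.sum_fiberwise Finset.univ (fun x : G => x • x₀)]
  have h : ∀ y : X, ∑ x ∈ Finset.univ.filter (fun x : G => x • x₀ = y),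
      (if g • (x • x₀) = x • x₀ then (1 : ℂ) else 0) =
        (Nat.card (MulAction.stabilizer G x₀) : ℂ) * if g • y = y then 1 else 0 := fun y => by
    rw [Finset.sum_congr rfl (g := fun _ => if g • y = y then (1 : ℂ) else 0)
      (fun x hx => by rw [(Finset.mem_filter.1 hx).2]), Finset.sum_const, hfib, nsmul_eq_mul]
  rw [Finset.sum_congr rfl fun y _ => h y, ← Finset.mul_sum, ← mul_assoc,
    inv_mul_cancel₀ (Nat.cast_ne_zero.2 Nat.card_pos.ne'), one_mul, permChar,
    Nat.card_eq_fintype_card, Fintype.card_ofFinset, Finset.sum_boole]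
  rfl

variable (θ : MulAction.stabilizer G x₀ →* ℂˣ)

/-- The induced character of a linear character. -/
noncomputable def indLin : G → ℂ :=
  Cfsg.indFun (MulAction.stabilizer G x₀) (fun h => ((θ h : ℂˣ) : ℂ))

theorem indLin_eq_permChar (g : G)
    (h : ∀ x : G, ∀ hx : x⁻¹ * g * x ∈ MulAction.stabilizer G x₀, θ ⟨_, hx⟩ = 1) :
    indLin x₀ θ g = permChar G X g := by
  rw [← indFun_one_eq_permChar x₀, indLin, Cfsg.indFun, Cfsg.indFun]
  congr 1
  refine Finset.sum_congr rfl fun x _ => ?_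
  by_cases hx : x⁻¹ * g * x ∈ MulAction.stabilizer G x₀
  · rw [extendByZero_of_mem _ _ hx, extendByZero_of_mem _ _ hx, h x hx, Units.val_one]
  · rw [extendByZero_of_notMem _ _ hx, extendByZero_of_notMem _ _ hx]

theorem norm_indLin_le (g : G) : ‖indLin x₀ θ g‖ ≤ ‖permChar G X g‖ := by
  classical
  have := Fintype.ofFinite (MulAction.stabilizer G x₀)
  have hθ : ∀ h, ‖((θ h : ℂˣ) : ℂ)‖ ≤ 1 := fun h => by
    simpa using IsChar.norm_le (IsIrr.isCharacter (isIrrCharacter_linear θ)) h
  rw [← indFun_one_eq_permChar x₀, indLin, Cfsg.indFun, Cfsg.indFun, norm_mul, norm_mul]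
  refine mul_le_mul_of_nonneg_left ((norm_sum_le _ _).trans ?_) (norm_nonneg _)
  have h1 : ∀ x : G, Cfsg.extendByZero (MulAction.stabilizer G x₀) (fun _ => (1 : ℂ))
      (x⁻¹ * g * x) = ((if x⁻¹ * g * x ∈ MulAction.stabilizer G x₀ then 1 else 0 : ℝ) : ℂ) :=
    fun x => by
      by_cases hx : x⁻¹ * g * x ∈ MulAction.stabilizer G x₀
      · rw [extendByZero_of_mem _ _ hx, if_pos hx, Complex.ofReal_one]
      · rw [extendByZero_of_notMem _ _ hx, if_neg hx, Complex.ofReal_zero]
  simp only [h1, ← Complex.ofReal_sum, Complex.norm_real, Real.norm_eq_abs]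
  refine le_trans ?_ (le_abs_self _)
  refine Finset.sum_le_sum fun x _ => ?_
  by_cases hx : x⁻¹ * g * x ∈ MulAction.stabilizer G x₀
  · rw [extendByZero_of_mem _ _ hx, if_pos hx]
    exact hθ _
  · rw [extendByZero_of_notMem _ _ hx, if_neg hx, norm_zero]

variable {V : Type*} [AddCommGroup V] [Module ℂ V] [FiniteDimensional ℂ V]
  (ρ : Representation ℂ G V) [ρ.IsIrreducible]

/-- A stabiliser eigenvector in an irreducible representation of a 2-transitive group: the induced
character is that character, or that character and one more irreducible one with an eigenvector. -/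
theorem two_transitive_eigen (hX : 2 ≤ Nat.card X) [MulAction.IsMultiplyPretransitive G X 2]
    {v : V} (hv0 : v ≠ 0)
    (hv : ∀ p : MulAction.stabilizer G x₀, ρ (p : G) v = ((θ p : ℂˣ) : ℂ) • v) :
    ρ.character = indLin x₀ θ ∨
      ∃ (n : ℕ) (σ : Representation ℂ G (Fin n → ℂ)), σ.IsIrreducible ∧
        (∀ g, σ.character g = indLin x₀ θ g - ρ.character g) ∧
        ∃ w, w ≠ 0 ∧ ∀ p : MulAction.stabilizer G x₀, σ (p : G) w = ((θ p : ℂˣ) : ℂ) • w := by
  classical
  have := Fintype.ofFinite (Cfsg.IrrCharacter G)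
  have := Fintype.ofFinite (MulAction.stabilizer G x₀)
  have hI : Cfsg.IsCharacter G (indLin x₀ θ) :=
    isCharacter_indFun _ (IsIrr.isCharacter (isIrrCharacter_linear θ))
  obtain ⟨m, hm⟩ := IsChar.exists_sum hI
  set χ₁ : Cfsg.IrrCharacter G := irrOfRep ρ
  have hm1 : m χ₁ ≠ 0 := fun h0 => by
    have h := classInner_sum_irr (fun ψ => (m ψ : ℂ)) χ₁
    rw [← hm, h0, Nat.cast_zero, indLin,
      frobenius_reciprocity _ _ (IsIrr.isClassFunction χ₁.2)] at h
    exact classInner_ne_zero_of_eigen (ρ.comp (MulAction.stabilizer G x₀).subtype) θ hv0 hv h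
  have hle : ∑ ψ, m ψ * m ψ ≤ 2 := by
    have h2 : Cfsg.classInner (permChar G X) (permChar G X) = (2 : ℕ) := by
      rw [classInner_permChar_self,
        (orbits_pairs_eq_two_iff G X hX).2 inferInstance]
    have h := IsChar.classInner_self (fun ψ : Cfsg.IrrCharacter G => (m ψ : ℂ))
    rw [← hm] at h
    simp only [map_natCast] at h
    have hsq : ∀ f : G → ℂ, (Cfsg.classInner f f).re =
        (Nat.card G : ℝ)⁻¹ * ∑ g, ‖f g‖ ^ 2 := fun f => by
      have h' : Cfsg.classInner f f =
          (((Nat.card G : ℝ)⁻¹ * ∑ g, ‖f g‖ ^ 2 : ℝ) : ℂ) := by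
        simp only [Cfsg.classInner, Complex.ofReal_mul, Complex.ofReal_inv, Complex.ofReal_natCast,
          Complex.ofReal_sum, Complex.ofReal_pow, Complex.mul_conj']
      rw [h', Complex.ofReal_re]
    have hle' : (Cfsg.classInner (indLin x₀ θ) (indLin x₀ θ)).re ≤
        (Cfsg.classInner (permChar G X) (permChar G X)).re := by
      rw [hsq, hsq]
      refine mul_le_mul_of_nonneg_left (Finset.sum_le_sum fun g _ => ?_) (by positivity)
      exact pow_le_pow_left₀ (norm_nonneg _) (norm_indLin_le x₀ θ g) 2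
    rw [h, h2] at hle'
    have : ((∑ ψ, m ψ * m ψ : ℕ) : ℝ) ≤ 2 := by
      refine le_trans (le_of_eq ?_) (hle'.trans (le_of_eq (by simp)))
      rw [← Complex.natCast_re]
      push_cast
      rfl
    exact_mod_cast this
  rw [← Finset.add_sum_erase _ _ (Finset.mem_univ χ₁)] at hle
  have hm1' : m χ₁ = 1 := by
    rcases Nat.lt_or_ge (m χ₁) 2 with h | h
    · omega
    · have := Nat.mul_le_mul h h
      omega
  have hrest : ∑ ψ ∈ Finset.univ.erase χ₁, m ψ * m ψ ≤ 1 := by
    rw [hm1'] at hle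
    omega
  have hIeq : ∀ g, indLin x₀ θ g = ρ.character g +
      ∑ ψ ∈ Finset.univ.erase χ₁, (m ψ : ℂ) * (ψ : G → ℂ) g := fun g => by
    rw [congrFun hm g, Finset.sum_apply, ← Finset.add_sum_erase _ _ (Finset.mem_univ χ₁)]
    simp only [Pi.smul_apply, smul_eq_mul, hm1', Nat.cast_one, one_mul]
    rfl
  by_cases hz : ∀ ψ ∈ Finset.univ.erase χ₁, m ψ = 0
  · left
    funext g
    rw [hIeq g, Finset.sum_eq_zero fun ψ hψ => by rw [hz ψ hψ, Nat.cast_zero, zero_mul], add_zero]
  · right
    push Not at hz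
    obtain ⟨ψ, hψ, hψ0⟩ := hz
    have hsplit : ∀ φ ∈ Finset.univ.erase χ₁, φ ≠ ψ → m φ = 0 := fun φ hφ hne => by
      by_contra h0
      have h1 : m φ * m φ + m ψ * m ψ ≤ ∑ x ∈ Finset.univ.erase χ₁, m x * m x :=
        Finset.add_le_sum (f := fun x => m x * m x) (fun x _ => Nat.zero_le _) hφ hψ hne
      have := Nat.mul_pos (Nat.pos_of_ne_zero h0) (Nat.pos_of_ne_zero h0)
      have := Nat.mul_pos (Nat.pos_of_ne_zero hψ0) (Nat.pos_of_ne_zero hψ0)
      omega
    have hmψ : m ψ = 1 := by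
      have h1 : m ψ * m ψ ≤ ∑ x ∈ Finset.univ.erase χ₁, m x * m x :=
        Finset.single_le_sum (f := fun x => m x * m x) (fun x _ => Nat.zero_le _) hψ
      have := Nat.mul_le_mul (Nat.one_le_iff_ne_zero.2 hψ0) (le_refl (m ψ))
      omega
    obtain ⟨n, σ, hσ, hσc⟩ := ψ.2
    have hval : ∀ g, σ.character g = indLin x₀ θ g - ρ.character g := fun g => by
      rw [hσc, hIeq g, Finset.sum_eq_single ψ
        (fun φ hφ hne => by rw [hsplit φ hφ hne, Nat.cast_zero, zero_mul])
        (fun h => absurd hψ h), hmψ, Nat.cast_one, one_mul, add_sub_cancel_left]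
    refine ⟨n, σ, hσ, hval, exists_eigen_of_classInner_ne_zero
      (σ.comp (MulAction.stabilizer G x₀).subtype) θ fun h0 => ?_⟩
    have h := classInner_sum_irr (fun φ => (m φ : ℂ)) ψ
    rw [← hm, hmψ, Nat.cast_one, indLin,
      frobenius_reciprocity _ _ (IsIrr.isClassFunction ψ.2), ← hσc] at h
    exact one_ne_zero (h.symm.trans h0)

end CfsgLib.SLMinDeg
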