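import Cfsg.Agent.Lib.Geo.SLMin.Arith
import Mathlib.FieldTheory.Finite.Basic

/-!
# Representations of small degree

Owner: helper23. By induction on the dimension: below the degree of the deleted permutation
representation there is only the degree `qᵏ - 1` and three small exceptions.
-/

set_option autoImplicit false

namespace CfsgLib.SLMinDeg

open Module

variable {F : Type*} [Field F] {k : ℕ}

theorem exists_smul_of_mem_span {V : Type*} [AddCommGroup V] [Module F V] {u v : V}
    (h : v ∈ F ∙ u) (hv : v ≠ 0) : ∃ c : Fˣ, (c : F) • u = v := by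
  obtain ⟨c, rfl⟩ := Submodule.mem_span_singleton.1 h
  exact ⟨Units.mk0 c fun h0 => hv (by rw [h0, zero_smul]), rfl⟩

/-- A transvection moving a vector to an independent one. -/
theorem exists_move_of_notMem {V : Type*} [AddCommGroup V] [Module F V] [FiniteDimensional F V]
    {u v : V} (hu : u ≠ 0) (h : v ∉ F ∙ u) :
    ∃ g : V ≃ₗ[F] V, LinearEquiv.det g = 1 ∧ g u = v := by
  have hne : u ∉ F ∙ (v - u) := fun hm => by
    obtain ⟨c, hc⟩ := Submodule.mem_span_singleton.1 hm
    rw [smul_sub, sub_eq_iff_eq_add] at hc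
    by_cases hc0 : c = 0
    · rw [hc0, zero_smul, zero_smul, add_zero] at hc
      exact hu hc.symm
    · refine h (Submodule.mem_span_singleton.2 ⟨c⁻¹ * (1 + c), ?_⟩)
      rw [mul_smul, add_smul, one_smul, ← hc, smul_smul, inv_mul_cancel₀ hc0, one_smul]
  obtain ⟨f, hfu, hf⟩ := Submodule.exists_dual_map_eq_bot_of_notMem hne inferInstance
  have hf0 : f (v - u) = 0 := by
    have := Submodule.mem_map_of_mem (f := f) (Submodule.mem_span_singleton_self (R := F) (v - u))
    rwa [hf, Submodule.mem_bot] at this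
  refine exists_move ((f u)⁻¹ • f) ?_ ?_
  · simp [inv_mul_cancel₀ hfu]
  · simp [hf0]

/-- A vector outside a given line. -/
theorem exists_notMem_span (hk : 2 ≤ k) (u : U F k) : ∃ w : U F k, w ∉ F ∙ u := by
  by_contra h
  push Not at h
  have htop : (F ∙ u) = ⊤ := Submodule.eq_top_iff'.2 h
  have h1 : finrank F (F ∙ u) ≤ 1 := (finrank_span_le_card ({u} : Set (U F k))).trans (by simp)
  rw [htop, finrank_top, finrank_fin_fun] at h1
  omega

namespace Setup

/-- The general linear group. -/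
def gl (F : Type*) [Field F] (k : ℕ) : Setup F k where
  Γ := ⊤
  mem_of_det _ _ := Subgroup.mem_top _
  a := 1
  lev_mem _ := Subgroup.mem_top _
  a_one _ _ := rfl
  trans u v hu hv := by
    by_cases h : v ∈ F ∙ u
    · obtain ⟨c, hc⟩ := exists_smul_of_mem_span h hv
      refine ⟨LinearEquiv.smulOfUnit c, ?_⟩
      simp only [MonoidHom.one_apply, inv_one, Units.val_one, one_smul]
      exact hc
    · obtain ⟨g, -, hg⟩ := exists_move_of_notMem hu h
      exact ⟨g, by simp [hg]⟩

/-- The special linear group. -/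
noncomputable def sl (F : Type*) [Field F] (k : ℕ) (hk : 2 ≤ k) : Setup F k where
  Γ := (LinearEquiv.det (R := F) (M := W F k)).ker
  mem_of_det _ h := h
  a := (LinearEquiv.det (R := F) (M := U F k))⁻¹
  lev_mem g := by
    show LinearEquiv.det (lev _ g) = 1
    rw [det_lev, MonoidHom.inv_apply, inv_mul_cancel]
  a_one g h := by rw [MonoidHom.inv_apply, h, inv_one]
  trans u v hu hv := by
    have key : ∀ g : U F k ≃ₗ[F] U F k, LinearEquiv.det g = 1 → g u = v →
        (((((LinearEquiv.det (R := F) (M := U F k))⁻¹) g)⁻¹ : Fˣ) : F) • g u = v :=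
      fun g hg hgu => by rw [MonoidHom.inv_apply, hg, hgu]; simp
    by_cases h : v ∈ F ∙ u
    · obtain ⟨w, hw⟩ := exists_notMem_span hk u
      obtain ⟨g, hg1, hg2⟩ := exists_move_of_notMem hu hw
      have hw0 : w ≠ 0 := fun h0 => hw (h0 ▸ zero_mem _)
      have hvw' : v ∉ F ∙ w := fun hvw => by
        obtain ⟨c, hc⟩ := exists_smul_of_mem_span hvw hv
        refine hw ?_
        have h' := Submodule.smul_mem _ ((c⁻¹ : Fˣ) : F) h
        rwa [← hc, smul_smul, ← Units.val_mul, inv_mul_cancel, Units.val_one, one_smul] at h'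
      obtain ⟨g', hg1', hg2'⟩ := exists_move_of_notMem hw0 hvw'
      exact ⟨g' * g, key _ (by rw [map_mul, hg1, hg1', one_mul])
        (by rw [LinearEquiv.mul_apply, hg2, hg2'])⟩
    · obtain ⟨g, hg1, hg2⟩ := exists_move_of_notMem hu h
      exact ⟨g, key g hg1 hg2⟩

end Setup

variable [Fintype F]

/-- The degrees allowed below that of the deleted permutation representation. -/
def Small (q k d : ℕ) : Prop :=
  d + 1 = q ^ k ∨ (q = 2 ∧ k = 2 ∧ d = 4) ∨ (q = 4 ∧ k = 2 ∧ d = 18) ∨ (q = 2 ∧ k = 3 ∧ d = 10)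

theorem card_ne_ten : Fintype.card F ≠ 10 := by
  obtain ⟨p, _, n, hp, h⟩ := FiniteField.card' F
  intro h10
  rw [h] at h10
  have h5 : 5 ∣ p ^ (n : ℕ) := h10 ▸ by norm_num
  have h2 : 2 ∣ p ^ (n : ℕ) := h10 ▸ by norm_num
  have := (Nat.prime_dvd_prime_iff_eq (by norm_num) hp).1 ((Nat.Prime.dvd_of_dvd_pow (by norm_num) h5))
  have := (Nat.prime_dvd_prime_iff_eq (by norm_num) hp).1 ((Nat.Prime.dvd_of_dvd_pow (by norm_num) h2))
  omega

theorem two_le_card : 2 ≤ Fintype.card F := Fintype.one_lt_card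

/-- The group of `Fᵏ⁺¹` as the group of `F × Fᵏ`. -/
noncomputable def toU (F : Type*) [Field F] (k : ℕ) :
    (Setup.gl F k).Γ →* (U F (k + 1) ≃ₗ[F] U F (k + 1)) where
  toFun x := (LinearEquiv.ofFinrankEq (W F k) (U F (k + 1)) (by simp [add_comm])).symm.trans
    ((x : W F k ≃ₗ[F] W F k).trans (LinearEquiv.ofFinrankEq _ _ (by simp [add_comm])))
  map_one' := LinearEquiv.ext fun v => by simp
  map_mul' x y := LinearEquiv.ext fun v => by simp [LinearEquiv.mul_apply]

theorem toU_surjective (F : Type*) [Field F] (k : ℕ) : Function.Surjective (toU F k) := fun g =>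
  ⟨⟨(LinearEquiv.ofFinrankEq (W F k) (U F (k + 1)) (by simp [add_comm])).trans
      (g.trans (LinearEquiv.ofFinrankEq _ _ (by simp [add_comm])).symm), Subgroup.mem_top _⟩,
    LinearEquiv.ext fun v => by simp [toU]⟩

theorem det_toU (F : Type*) [Field F] (k : ℕ) (x : (Setup.gl F k).Γ) :
    LinearEquiv.det (toU F k x) = LinearEquiv.det (x : W F k ≃ₗ[F] W F k) := by
  rw [toU]
  exact LinearEquiv.det_conj _ _

/-- A non-trivial representation of `GL` has degree at least `qᵏ - 1`. -/
theorem pow_le_finrank [NeZero k] {V : Type*} [AddCommGroup V] [Module ℂ V]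
    [FiniteDimensional ℂ V] (τ : Representation ℂ (U F (k + 1) ≃ₗ[F] U F (k + 1)) V)
    (h : ∃ g, LinearEquiv.det g = 1 ∧ τ g ≠ 1) : Fintype.card F ^ k ≤ finrank ℂ V + 1 := by
  obtain ⟨g, hgd, hg⟩ := h
  obtain ⟨x, rfl⟩ := toU_surjective F k g
  let τ' : Representation ℂ (Setup.gl F k).Γ V := τ.comp (toU F k)
  have hm : (Setup.gl F k).m τ' ≠ 0 := fun h0 =>
    hg ((Setup.gl F k).apply_eq_one_of_m_zero τ' h0 x (det_toU F k x ▸ hgd))
  have h' := (Setup.gl F k).finrank_eq τ'
  have h1 : (1 : ℤ) ≤ (Fintype.card F : ℤ) ^ k := one_le_pow₀ (by exact_mod_cast Fintype.card_pos)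
  have h2 : ((Fintype.card F : ℤ) ^ k - 1) * 1 ≤
      ((Fintype.card F : ℤ) ^ k - 1) * ((Setup.gl F k).m τ' : ℤ) :=
    mul_le_mul_of_nonneg_left (by omega) (by omega)
  have h3 : ((Fintype.card F ^ k : ℕ) : ℤ) ≤ ((finrank ℂ V + 1 : ℕ) : ℤ) := by
    push_cast
    omega
  exact_mod_cast h3

/-- The degrees below that of the deleted permutation representation. -/
theorem small_degree : ∀ (k : ℕ) [NeZero k] (S : Setup F k) (V : Type) [AddCommGroup V]
    [Module ℂ V] [FiniteDimensional ℂ V] (ρ : Representation ℂ S.Γ V) [ρ.IsIrreducible],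
    (∃ x : S.Γ, LinearEquiv.det (x : W F k ≃ₗ[F] W F k) = 1 ∧ ρ x ≠ 1) →
    finrank ℂ V + 1 < G (Fintype.card F) (k + 1) →
    S.m ρ = 1 ∧ Small (Fintype.card F) k (finrank ℂ V) := by
  intro k
  induction k using Nat.strong_induction_on with
  | _ k ih =>
  intro _ S V _ _ _ ρ _ hnt hlt
  have hq : 2 ≤ Fintype.card F := two_le_card
  set q := Fintype.card F with hqdef
  have hm0 : S.m ρ ≠ 0 := fun h0 => by
    obtain ⟨x, hx, hxρ⟩ := hnt
    exact hxρ (S.apply_eq_one_of_m_zero ρ h0 x hx)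
  have hd := S.finrank_eq ρ
  have hN : 1 ≤ q ^ k := Nat.one_le_pow _ _ (by omega)
  have hd' : finrank ℂ V = S.mult ρ 0 + (q ^ k - 1) * S.m ρ := by
    have : ((finrank ℂ V : ℕ) : ℤ) = ((S.mult ρ 0 + (q ^ k - 1) * S.m ρ : ℕ) : ℤ) := by
      rw [hd]
      push_cast [Nat.cast_sub hN]
      rfl
    exact_mod_cast this
  have hG := G_lt_pow hq k
  rw [G_succ'] at hlt
  have hm : S.m ρ = 1 := by
    by_contra h
    have : (q ^ k - 1) * 2 ≤ (q ^ k - 1) * S.m ρ := Nat.mul_le_mul_left _ (by omega)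
    omega
  rw [hm, mul_one] at hd'
  refine ⟨hm, ?_⟩
  set c := S.mult ρ 0 with hcdef
  have hc : c < G q k := by omega
  by_cases hc0 : c = 0
  · exact Or.inl (by omega)
  obtain ⟨k', rfl⟩ : ∃ k', k = k' + 1 := ⟨k - 1, by have := NeZero.pos k; omega⟩
  have hk' : k' ≠ 0 := by
    rintro rfl
    simp [G] at hc
    omega
  haveI : NeZero k' := ⟨hk'⟩
  -- the complement group on the fixed space
  have hinv : ∀ g, ∀ v ∈ LinearMap.range (S.E ρ 0),
      ρ (S.iota g) v ∈ LinearMap.range (S.E ρ 0) := fun g v ⟨w, hw⟩ => by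
    refine ⟨ρ (S.iota g) w, ?_⟩
    have h := LinearMap.congr_fun (S.iota_mul_E ρ g 0) w
    rw [S.act_zero] at h
    rw [← hw]
    exact h.symm
  let σ : Representation ℂ (U F (k' + 1) ≃ₗ[F] U F (k' + 1)) (LinearMap.range (S.E ρ 0)) :=
    { toFun := fun g => (ρ (S.iota g)).restrict (hinv g)
      map_one' := LinearMap.ext fun w => Subtype.ext (by simp)
      map_mul' := fun a b => LinearMap.ext fun w => Subtype.ext (by simp) }
  have hCdim : finrank ℂ (LinearMap.range (S.E ρ 0)) = c := rfl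
  -- no vector of the fixed space is fixed by `SL` of the complement
  have hnofix : ∀ w : LinearMap.range (S.E ρ 0),
      (∀ g, LinearEquiv.det g = 1 → σ g w = w) → w = 0 := fun w hw => by
    by_contra hw0
    have h := S.le_finrank_of_fixed ρ hm (v := w.1) (fun h => hw0 (Subtype.ext h))
      (fun ψ => (S.mem_range_E_zero ρ).1 w.2 ψ) (fun g hg => congrArg Subtype.val (hw g hg))
    rw [← hqdef, G_succ'] at h
    omega
  have hdvd := S.dvd_finrank ρ
  rw [← hqdef, ← hcdef] at hdvd
  by_cases hc1 : c + 1 = G q (k' + 1)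
  · exact absurd hdvd (not_dvd_deleted hq (by omega) hc1 (by omega))
  -- otherwise the fixed space is irreducible
  have hC0 : Nontrivial (LinearMap.range (S.E ρ 0)) :=
    Module.nontrivial_of_finrank_pos (R := ℂ) (by omega)
  haveI : Finite (U F (k' + 1) ≃ₗ[F] U F (k' + 1)) :=
    Finite.of_injective (fun g => (g : U F (k' + 1) → U F (k' + 1))) DFunLike.coe_injective
  have hG' := G_lt_pow hq k'
  have hσ : σ.IsIrreducible := by
    by_contra hne
    obtain ⟨A, B, hAB, hA, hB⟩ := CfsgLib.Char.exists_isCompl_of_not_irreducible hne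
    have hbig : ∀ A : Subrepresentation σ, A.toSubmodule ≠ ⊥ →
        q ^ k' ≤ finrank ℂ A.toSubmodule + 1 := fun A hA => by
      refine pow_le_finrank A.toRepresentation ?_
      obtain ⟨w, hw, hw0⟩ := (Submodule.ne_bot_iff _).1 hA
      by_contra hall
      push Not at hall
      refine hw0 (hnofix w fun g hg => ?_)
      have := LinearMap.congr_fun (hall g hg) ⟨w, hw⟩
      exact congrArg Subtype.val this
    have h1 := hbig A hA
    have h2 := hbig B hB
    have h3 := Submodule.finrank_add_eq_of_isCompl hAB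
    rw [G_succ'] at hc hc1
    omega
  let σ' : Representation ℂ (Setup.gl F k').Γ (LinearMap.range (S.E ρ 0)) := σ.comp (toU F k')
  have hσ' : σ'.IsIrreducible := by
    haveI : Nontrivial (Subrepresentation σ') :=
      ⟨⊥, ⊤, fun hbt => bot_ne_top (congrArg Subrepresentation.toSubmodule hbt)⟩
    refine ⟨fun P => ?_⟩
    have hP : ∀ g, ∀ w ∈ P.toSubmodule, σ g w ∈ P.toSubmodule := fun g w hw => by
      obtain ⟨x, rfl⟩ := toU_surjective F k' g
      exact P.apply_mem_toSubmodule x hw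
    rcases eq_or_ne P.toSubmodule ⊥ with h | h
    · exact Or.inl (Subrepresentation.toSubmodule_injective h)
    · exact Or.inr (Subrepresentation.toSubmodule_injective
        (CfsgLib.CharWeights.eq_top_of_invariant σ P.toSubmodule hP h))
  have hnt' : ∃ x : (Setup.gl F k').Γ,
      LinearEquiv.det (x : W F k' ≃ₗ[F] W F k') = 1 ∧ σ' x ≠ 1 := by
    by_contra hall
    push Not at hall
    obtain ⟨w, hw⟩ := exists_ne (0 : LinearMap.range (S.E ρ 0))
    refine hw (hnofix w fun g hg => ?_)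
    obtain ⟨x, rfl⟩ := toU_surjective F k' g
    exact LinearMap.congr_fun (hall x (det_toU F k' x ▸ hg)) w
  obtain ⟨-, hsmall⟩ := ih k' (by omega) (Setup.gl F k') (LinearMap.range (S.E ρ 0)) σ' hnt'
    (by rw [hCdim]; omega)
  rw [hCdim] at hsmall
  rcases hsmall with hexc | ⟨hq2, hk2, hc2⟩ | ⟨hq4, hk2, hc2⟩ | ⟨hq2, hk3, hc2⟩
  · rcases eq_or_ne k' 1 with rfl | hk1
    · rcases exceptional_two hq card_ne_ten (c := c) (by simpa using hexc) (by simpa using
        (show finrank ℂ V + 1 = q ^ (1 + 1) + c by omega)) (by simpa using hdvd) with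
        ⟨h1, h2⟩ | ⟨h1, h2⟩
      · exact Or.inr (Or.inl ⟨h1, rfl, h2⟩)
      · exact Or.inr (Or.inr (Or.inl ⟨h1, rfl, h2⟩))
    · obtain ⟨j, rfl⟩ : ∃ j, k' = j + 2 := ⟨k' - 2, by omega⟩
      obtain ⟨h1, rfl, h2⟩ := exceptional_large hq hexc
        (show finrank ℂ V + 1 = q ^ (j + 2 + 1) + c by omega) hdvd
      exact Or.inr (Or.inr (Or.inr ⟨h1, rfl, h2⟩))
  · exfalso
    subst hk2
    simp only [hq2, hc2, G, Finset.sum_range_succ, Finset.sum_range_zero] at hdvd hd'
    norm_num at hdvd hd'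
    rw [hd'] at hdvd
    norm_num at hdvd
  · exfalso
    subst hk2
    simp only [hq4, hc2, G, Finset.sum_range_succ, Finset.sum_range_zero] at hdvd hd'
    norm_num at hdvd hd'
    rw [hd'] at hdvd
    norm_num at hdvd
  · exfalso
    subst hk3
    simp only [hq2, hc2, G, Finset.sum_range_succ, Finset.sum_range_zero] at hdvd hd'
    norm_num at hdvd hd'
    rw [hd'] at hdvd
    norm_num at hdvd

end CfsgLib.SLMinDeg
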