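import Cfsg.Agent.Lib.Geo.SLMin.Weights
import Cfsg.Agent.Lib.Geo.SLMin.Induced
import Cfsg.Agent.Lib.Char.Weights
import Mathlib.LinearAlgebra.Projectivization.Action
import Mathlib.LinearAlgebra.Projectivization.Cardinality

/-!
# The stabiliser of a line

Owner: helper23. The sum of the transvection projections over all lines is central, which gives a
divisibility; a vector fixed by the kernel of the stabiliser forces a large degree.
-/

set_option autoImplicit false

namespace CfsgLib.SLMinDeg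

open Module Projectivization
open scoped LinearAlgebra.Projectivization

variable {F : Type*} [Field F] [Fintype F] {k : ℕ} [NeZero k] (S : Setup F k)

/-- The line of `e0`. -/
def pt0 : ℙ F (W F k) := Projectivization.mk F e0 e0_ne

instance : Finite (ℙ F (W F k)) :=
  Finite.of_surjective (fun v : {v : W F k // v ≠ 0} => Projectivization.mk' F v)
    (fun p => ⟨⟨p.rep, p.rep_nonzero⟩, p.mk_rep⟩)

/-- The number of lines of `Fⁱ`. -/
def G (q i : ℕ) : ℕ := ∑ j ∈ Finset.range i, q ^ j

theorem G_succ (q i : ℕ) : G q (i + 1) = q * G q i + 1 := by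
  simp [G, geom_sum_succ]

theorem G_succ' (q i : ℕ) : G q (i + 1) = q ^ i + G q i := by
  simp [G, geom_sum_succ']

namespace Setup

theorem smul_pt0 (x : S.Γ) : x • (pt0 : ℙ F (W F k)) =
    Projectivization.mk F ((x : W F k ≃ₗ[F] W F k) e0) ((LinearEquiv.map_ne_zero_iff _).2 e0_ne) :=
  rfl

theorem mem_stab_iff {x : S.Γ} : x ∈ MulAction.stabilizer S.Γ (pt0 : ℙ F (W F k)) ↔
    ∃ c : F, c ≠ 0 ∧ (x : W F k ≃ₗ[F] W F k) e0 = c • e0 := by
  rw [MulAction.mem_stabilizer_iff, S.smul_pt0, pt0, mk_eq_mk_iff']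
  constructor
  · rintro ⟨c, hc⟩
    refine ⟨c, fun h0 => ?_, hc.symm⟩
    rw [h0, zero_smul] at hc
    exact (LinearEquiv.map_ne_zero_iff _).2 e0_ne hc.symm
  · rintro ⟨c, -, hc⟩
    exact ⟨c, hc.symm⟩

instance isPretransitive : MulAction.IsPretransitive S.Γ (ℙ F (W F k)) := by
  have h : ∀ p : ℙ F (W F k), ∃ x : S.Γ, x • (pt0 : ℙ F (W F k)) = p := fun p => by
    obtain ⟨g, hd, hg⟩ := exists_det_one_map p.rep_nonzero
    refine ⟨⟨g, S.mem_of_det g hd⟩, ?_⟩
    conv_rhs => rw [← p.mk_rep]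
    rw [S.smul_pt0, mk_eq_mk_iff']
    exact ⟨1, by rw [one_smul]; exact hg.symm⟩
  refine ⟨fun p p' => ?_⟩
  obtain ⟨x, rfl⟩ := h p
  obtain ⟨y, rfl⟩ := h p'
  exact ⟨y * x⁻¹, by rw [mul_smul, inv_smul_smul]⟩

instance isTwoPretransitive : MulAction.IsMultiplyPretransitive S.Γ (ℙ F (W F k)) 2 := by
  rw [MulAction.is_two_pretransitive_iff]
  intro a b c d hab hcd
  obtain ⟨g, h1, h2⟩ := MulAction.is_two_pretransitive_iff.1
    (Projectivization.specialLinearGroup_is_two_pretransitive F (W F k)) hab hcd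
  exact ⟨⟨g.1, S.mem_of_det g.1 g.2⟩, h1, h2⟩

omit [NeZero k] in
theorem card_lines : Nat.card (ℙ F (W F k)) = G (Fintype.card F) (k + 1) := by
  rw [Projectivization.card_of_finrank F (W F k) (n := k + 1) (by simp [add_comm]),
    Nat.card_eq_fintype_card, G]

theorem index_stab :
    (MulAction.stabilizer S.Γ (pt0 : ℙ F (W F k))).index = G (Fintype.card F) (k + 1) := by
  rw [MulAction.index_stabilizer_of_transitive, card_lines]

omit [NeZero k] in
theorem two_le_lines (hk : k ≠ 0) : 2 ≤ Nat.card (ℙ F (W F k)) := by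
  rw [card_lines, G_succ']
  obtain ⟨i, rfl⟩ := Nat.exists_eq_succ_of_ne_zero hk
  rw [G_succ]
  have := Nat.one_le_pow (i + 1) _ (Fintype.card_pos (α := F))
  show 2 ≤ Fintype.card F ^ (i + 1) + (_ + 1)
  omega

theorem exists_conj_tauG {p : S.Γ} (hp : p ∈ MulAction.stabilizer S.Γ (pt0 : ℙ F (W F k)))
    (ψ : Dual F (U F k)) : ∃ φ, p * S.tauG ψ * p⁻¹ = S.tauG φ := by
  obtain ⟨c, hc, hce⟩ := S.mem_stab_iff.1 hp
  set g : W F k ≃ₗ[F] W F k := (p : W F k ≃ₗ[F] W F k) with hg
  have hcinv : g.symm e0 = c⁻¹ • e0 := by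
    rw [g.symm_apply_eq, map_smul, hce, smul_smul, inv_mul_cancel₀ hc, one_smul]
  let f : Dual F (W F k) := c • (ext ψ ∘ₗ (g.symm : W F k →ₗ[F] W F k))
  refine ⟨f ∘ₗ LinearMap.inr F F (U F k), Subtype.ext ?_⟩
  show g * tau ψ * g⁻¹ = tau (f ∘ₗ LinearMap.inr F F (U F k))
  rw [tau, conj_transvection]
  refine LinearEquiv.ext fun x => ?_
  rw [LinearEquiv.transvection.apply, tau_apply, hce]
  have hx : x = x.1 • e0 + ((0 : F), x.2) := by simp [e0]
  have hf0 : ext ψ (g.symm e0) = 0 := by rw [hcinv, map_smul, ext_e0, smul_zero]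
  have hval : ext ψ (g.symm x) = ext ψ (g.symm ((0 : F), x.2)) := by
    conv_lhs => rw [hx]
    rw [map_add, map_add, map_smul, map_smul, hf0, smul_zero, zero_add]
  show x + ext ψ (g.symm x) • c • e0 = (x.1 + c * ext ψ (g.symm ((0 : F), x.2)), x.2)
  rw [hval]
  refine Prod.ext ?_ ?_
  · simp [e0, mul_comm]
  · simp [e0]

theorem tauG_injective : Function.Injective S.tauG := by
  intro φ ψ h
  refine LinearMap.ext fun u => ?_
  have := congrArg (fun z : S.Γ => ((z : W F k ≃ₗ[F] W F k) ((0 : F), u)).1) h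
  simpa [Setup.tauG, tau_apply] using this

variable {V : Type*} [AddCommGroup V] [Module ℂ V] (ρ : Representation ℂ S.Γ V)

theorem sum_tau_commute {p : S.Γ} (hp : p ∈ MulAction.stabilizer S.Γ (pt0 : ℙ F (W F k))) :
    ρ p * (∑ ψ, ρ (S.tauG ψ)) * ρ p⁻¹ = ∑ ψ, ρ (S.tauG ψ) := by
  choose σ hσ using S.exists_conj_tauG hp
  have hinj : Function.Injective σ := fun a b h => by
    have h' : p * S.tauG a * p⁻¹ = p * S.tauG b * p⁻¹ := by rw [hσ, hσ, h]
    exact S.tauG_injective (mul_left_cancel (mul_right_cancel h'))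
  rw [Finset.mul_sum, Finset.sum_mul]
  refine Fintype.sum_equiv (Equiv.ofBijective σ (Finite.injective_iff_bijective.1 hinj)) _ _
    fun ψ => ?_
  rw [Equiv.ofBijective_apply, ← hσ, map_mul, map_mul]

variable [FiniteDimensional ℂ V]

/-- The transvection projections summed over all lines give a central algebraic integer. -/
theorem dvd_finrank [ρ.IsIrreducible] :
    finrank ℂ V ∣ Fintype.card F ^ k * G (Fintype.card F) (k + 1) * S.mult ρ 0 := by
  classical
  set P := MulAction.stabilizer S.Γ (pt0 : ℙ F (W F k)) with hP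
  have := Fintype.ofFinite (S.Γ ⧸ P)
  set A : Module.End ℂ V := ∑ ψ, ρ (S.tauG ψ) with hA
  let T : S.Γ → Module.End ℂ V := fun x => ρ x * A * ρ x⁻¹
  have hT : ∀ x : S.Γ, ∀ p ∈ P, T (x * p) = T x := fun x p hp => by
    have h := S.sum_tau_commute ρ hp
    simp only [T, map_mul, mul_inv_rev]
    calc ρ x * ρ p * A * (ρ p⁻¹ * ρ x⁻¹) = ρ x * (ρ p * A * ρ p⁻¹) * ρ x⁻¹ := by
          simp only [mul_assoc]
      _ = _ := by rw [h]
  set X : Module.End ℂ V := ∑ c : S.Γ ⧸ P, T c.out with hX
  have hcomm : ∀ g, X * ρ g = ρ g * X := fun g => by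
    rw [hX, Finset.sum_mul, Finset.mul_sum]
    symm
    refine Fintype.sum_equiv (MulAction.toPerm g) _ _ fun c => ?_
    obtain ⟨p, hp⟩ := QuotientGroup.mk_out_eq_mul P (g * c.out)
    have hc : ((g * c.out : S.Γ) : S.Γ ⧸ P) = g • c := by
      conv_rhs => rw [← c.out_eq']
      rfl
    rw [MulAction.toPerm_apply, ← hc, hp, hT _ _ p.2]
    simp only [T, map_mul, mul_inv_rev, mul_assoc]
    rw [← map_mul ρ g⁻¹ g, inv_mul_cancel, map_one, mul_one]
  obtain ⟨s, hs⟩ := CfsgLib.CharIntegral.exists_scalar_of_commute ρ X hcomm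
  have hint : IsIntegral ℤ s := by
    refine CfsgLib.CharIntegral.isIntegral_of_scalar_mem ρ
      (∑ c : S.Γ ⧸ P, ∑ ψ, MonoidAlgebra.of ℤ S.Γ (c.out * S.tauG ψ * c.out⁻¹)) ?_
    rw [← hs, hX, map_sum]
    refine Finset.sum_congr rfl fun c _ => ?_
    rw [map_sum]
    show _ = ρ c.out * A * ρ c.out⁻¹
    rw [hA, Finset.mul_sum, Finset.sum_mul]
    refine Finset.sum_congr rfl fun ψ _ => ?_
    rw [MonoidAlgebra.lift_of (A := Module.End ℂ V) ρ, map_mul, map_mul]
  have hAeq : A = ((N F k : ℕ) : ℂ) • S.E ρ 0 := by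
    rw [E, smul_smul, mul_inv_cancel₀ N_ne, one_smul, hA]
    simp
  have htr : LinearMap.trace ℂ V X =
      ((Fintype.card F ^ k * G (Fintype.card F) (k + 1) * S.mult ρ 0 : ℕ) : ℂ) := by
    have h1 : ∀ x : S.Γ, LinearMap.trace ℂ V (T x) = LinearMap.trace ℂ V A := fun x => by
      simp only [T]
      rw [LinearMap.trace_mul_comm, ← mul_assoc, ← map_mul, inv_mul_cancel, map_one, one_mul]
    rw [hX, map_sum, Finset.sum_congr rfl fun c _ => h1 _, Finset.sum_const, Finset.card_univ,
      ← Nat.card_eq_fintype_card, ← Subgroup.index, hP, S.index_stab, hAeq, map_smul, S.trace_E,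
      N_eq, nsmul_eq_mul, smul_eq_mul]
    push_cast
    ring
  rw [hs, map_smul, LinearMap.trace_id, smul_eq_mul] at htr
  refine CfsgLib.CharIntegral.dvd_of_isIntegral_div
    (CfsgLib.CharIntegral.finrank_pos_of_irreducible ρ).ne' ?_
  rw [← htr, mul_div_assoc, div_self (CfsgLib.CharIntegral.finrank_cast_ne_zero ρ), mul_one]
  exact hint

/-- A map of determinant one fixing `e0` is a transvection times a map of the complement. -/
theorem exists_decomp (x : S.Γ) (hx : (x : W F k ≃ₗ[F] W F k) e0 = e0)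
    (hd : LinearEquiv.det (x : W F k ≃ₗ[F] W F k) = 1) :
    ∃ (g : U F k ≃ₗ[F] U F k) (ψ : Dual F (U F k)),
      LinearEquiv.det g = 1 ∧ x = S.iota g * S.tauG ψ := by
  set X : W F k ≃ₗ[F] W F k := (x : W F k ≃ₗ[F] W F k) with hX
  let gl : U F k →ₗ[F] U F k :=
    LinearMap.snd F F (U F k) ∘ₗ (X : W F k →ₗ[F] W F k) ∘ₗ LinearMap.inr F F (U F k)
  let ψ : Dual F (U F k) :=
    LinearMap.fst F F (U F k) ∘ₗ (X : W F k →ₗ[F] W F k) ∘ₗ LinearMap.inr F F (U F k)
  have hXv : ∀ v : W F k, X v = (v.1 + ψ v.2, gl v.2) := fun v => by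
    have hv : v = v.1 • e0 + ((0 : F), v.2) := by simp [e0]
    conv_lhs => rw [hv, map_add, map_smul, hx]
    refine Prod.ext ?_ ?_
    · simp [e0, ψ]
    · simp [e0, gl]
  have hlin : (X : W F k →ₗ[F] W F k) =
      LinearMap.prodMap LinearMap.id gl ∘ₗ (tau ψ : W F k →ₗ[F] W F k) :=
    LinearMap.ext fun v => by
      show X v = ((tau ψ v).1, gl (tau ψ v).2)
      rw [hXv, tau_apply]
  have hdet : LinearMap.det gl = 1 := by
    have h := congrArg LinearMap.det hlin
    rwa [LinearMap.det_comp, LinearMap.det_prodMap, LinearMap.det_id, one_mul,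
      ← LinearEquiv.coe_det, ← LinearEquiv.coe_det, det_tau, hd, Units.val_one, mul_one,
      eq_comm] at h
  let g : U F k ≃ₗ[F] U F k :=
    LinearMap.equivOfDetNeZero gl (by rw [hdet]; exact one_ne_zero)
  have hgv : ∀ u, g u = gl u := fun u => rfl
  have hgd : LinearEquiv.det g = 1 := by
    rw [← Units.val_inj, LinearEquiv.coe_det, Units.val_one, ← hdet]
    rfl
  refine ⟨g, ψ, hgd, Subtype.ext (LinearEquiv.ext fun v => ?_)⟩
  show X v = lev (S.a g) g (tau ψ v)
  rw [hXv, tau_apply, lev_apply, S.a_one g hgd, Units.val_one, one_mul, hgv]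

/-- A vector fixed by the kernel of the line stabiliser forces a large degree. -/
theorem le_finrank_of_fixed [ρ.IsIrreducible] (hm : S.m ρ = 1) {v : V} (hv0 : v ≠ 0)
    (hvQ : ∀ ψ, ρ (S.tauG ψ) v = v)
    (hvL : ∀ g, LinearEquiv.det g = 1 → ρ (S.iota g) v = v) :
    G (Fintype.card F) (k + 1) ≤ finrank ℂ V + 1 := by
  classical
  set P := MulAction.stabilizer S.Γ (pt0 : ℙ F (W F k)) with hP
  let InK : S.Γ → Prop := fun x =>
    (x : W F k ≃ₗ[F] W F k) e0 = e0 ∧ LinearEquiv.det (x : W F k ≃ₗ[F] W F k) = 1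
  let Sp : Submodule ℂ V :=
    { carrier := {w | ∀ x : S.Γ, InK x → ρ x w = w}
      add_mem' := fun ha hb x hx => by rw [map_add, ha x hx, hb x hx]
      zero_mem' := fun x _ => map_zero _
      smul_mem' := fun c w hw x hx => by rw [map_smul, hw x hx] }
  have hvSp : v ∈ Sp := fun x hx => by
    obtain ⟨g, ψ, hg, rfl⟩ := S.exists_decomp x hx.1 hx.2
    rw [map_mul, Module.End.mul_apply, hvQ, hvL g hg]
  have hnorm : ∀ p ∈ P, ∀ x : S.Γ, InK x → InK (p⁻¹ * x * p) := fun p hp x hx => by
    obtain ⟨c, hc, hce⟩ := S.mem_stab_iff.1 hp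
    refine ⟨?_, ?_⟩
    · show (p : W F k ≃ₗ[F] W F k).symm
        ((x : W F k ≃ₗ[F] W F k) ((p : W F k ≃ₗ[F] W F k) e0)) = e0
      rw [hce, map_smul, hx.1, LinearEquiv.symm_apply_eq, hce]
    · simp only [Subgroup.coe_mul, Subgroup.coe_inv, map_mul, map_inv, hx.2, mul_one,
        inv_mul_cancel]
  have hSp : ∀ p ∈ P, ∀ w ∈ Sp, ρ p w ∈ Sp := fun p hp w hw x hx => by
    have h1 : x * p = p * (p⁻¹ * x * p) := by group
    rw [← Module.End.mul_apply, ← map_mul, h1, map_mul, Module.End.mul_apply,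
      hw _ (hnorm p hp x hx)]
  let σ : Representation ℂ P Sp :=
    { toFun := fun p => (ρ p.1).restrict (hSp p.1 p.2)
      map_one' := LinearMap.ext fun w => Subtype.ext (by simp)
      map_mul' := fun a b => LinearMap.ext fun w => Subtype.ext (by simp) }
  have hσ : ∀ a b : (⊤ : Subgroup P), Commute (σ a.1) (σ b.1) := by
    rintro ⟨⟨a, ha⟩, -⟩ ⟨⟨b, hb⟩, -⟩
    refine LinearMap.ext fun w => Subtype.ext ?_
    show ρ a (ρ b w.1) = ρ b (ρ a w.1)
    obtain ⟨c, hc, hce⟩ := S.mem_stab_iff.1 ha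
    obtain ⟨d, hd, hde⟩ := S.mem_stab_iff.1 hb
    have hK : InK (a⁻¹ * b⁻¹ * a * b) := by
      refine ⟨?_, ?_⟩
      · show (a : W F k ≃ₗ[F] W F k).symm ((b : W F k ≃ₗ[F] W F k).symm
          ((a : W F k ≃ₗ[F] W F k) ((b : W F k ≃ₗ[F] W F k) e0))) = e0
        rw [LinearEquiv.symm_apply_eq, LinearEquiv.symm_apply_eq, hde, map_smul, hce, map_smul,
          hde, smul_comm]
      · simp only [Subgroup.coe_mul, Subgroup.coe_inv, map_mul, map_inv]
        rw [mul_comm (LinearEquiv.det (a : W F k ≃ₗ[F] W F k))⁻¹, mul_assoc, mul_assoc,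
          inv_mul_cancel_left, inv_mul_cancel]
    have hab : a * b = b * a * (a⁻¹ * b⁻¹ * a * b) := by group
    rw [← Module.End.mul_apply, ← map_mul, hab, map_mul, Module.End.mul_apply, w.2 _ hK,
      map_mul, Module.End.mul_apply]
  have : Nontrivial Sp := ⟨⟨⟨v, hvSp⟩, 0, fun h => hv0 (congrArg Subtype.val h)⟩⟩
  obtain ⟨lam, hlam⟩ : ∃ lam, CfsgLib.CharWeights.wspace σ (⊤ : Subgroup P) lam ≠ ⊥ := by
    by_contra h0
    push Not at h0
    have := CfsgLib.CharWeights.iSup_wspace_of_commute σ (⊤ : Subgroup P) hσ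
    simp [h0] at this
  obtain ⟨w, hw, hw0⟩ := (Submodule.ne_bot_iff _).mp hlam
  rw [CfsgLib.CharWeights.mem_wspace] at hw
  have hwv : (w : V) ≠ 0 := fun h => hw0 (Subtype.ext h)
  have heig : ∀ p : P, ρ (p : S.Γ) (w : V) = lam ⟨p, trivial⟩ • (w : V) := fun p =>
    congrArg Subtype.val (hw ⟨p, trivial⟩)
  have hmul : ∀ a b : P, lam ⟨a * b, trivial⟩ = lam ⟨a, trivial⟩ * lam ⟨b, trivial⟩ :=
    fun a b => by
      have h := heig (a * b)
      rw [Subgroup.coe_mul, map_mul, Module.End.mul_apply, heig b, map_smul, heig a,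
        smul_smul] at h
      rw [mul_comm]
      exact (smul_left_injective ℂ hwv h).symm
  have hone : lam ⟨(1 : P), trivial⟩ = 1 := by
    have h := heig 1
    rw [Subgroup.coe_one, map_one, Module.End.one_apply] at h
    exact (smul_left_injective ℂ hwv (h.symm.trans (one_smul ℂ _).symm))
  let θ : P →* ℂˣ := MonoidHom.toHomUnits
    { toFun := fun p => lam ⟨p, trivial⟩, map_one' := hone, map_mul' := hmul }
  have hθ : ∀ p : P, ρ (p : S.Γ) (w : V) = ((θ p : ℂˣ) : ℂ) • (w : V) := fun p => heig p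
  have hθK : ∀ p : P, InK (p : S.Γ) → θ p = 1 := fun p hp => by
    have h : ((θ p : ℂˣ) : ℂ) • (w : V) = (1 : ℂ) • (w : V) := by
      rw [one_smul, ← hθ p]
      exact w.2 _ hp
    exact Units.ext (smul_left_injective ℂ hwv h)
  have := Fintype.ofFinite S.Γ
  have hcount : ∀ φ : Dual F (U F k), φ ≠ 0 →
      indLin (pt0 : ℙ F (W F k)) θ (S.tauG φ) = (G (Fintype.card F) k : ℂ) := by
    intro φ hφ
    rw [indLin_eq_permChar]
    · rw [CfsgLib.Char.permChar]
      congr 1
      have hext : ext φ ≠ (0 : Dual F (W F k)) := fun h => hφ (LinearMap.ext fun u =>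
        LinearMap.congr_fun h ((0 : F), u))
      have hker : finrank F (LinearMap.ker (ext φ)) = k := by
        have := Module.Dual.finrank_ker_add_one_of_ne_zero hext
        simp at this
        omega
      rw [G, ← Nat.card_eq_fintype_card, ← Projectivization.card_of_finrank F _ hker]
      refine (Nat.card_congr (Equiv.ofBijective
        (fun p : ℙ F (LinearMap.ker (ext φ)) => (⟨Projectivization.map
          (LinearMap.ker (ext φ)).subtype (Submodule.injective_subtype _) p, ?_⟩ :
          MulAction.fixedBy (ℙ F (W F k)) (S.tauG φ))) ⟨?_, ?_⟩)).symm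
      · induction p using Projectivization.ind with
        | h y hy =>
          rw [MulAction.mem_fixedBy, Projectivization.map_mk]
          show Projectivization.mk F (tau φ (y : W F k)) _ = _
          refine (mk_eq_mk_iff' F _ _ _ _).2 ⟨1, ?_⟩
          rw [one_smul, tau, LinearEquiv.transvection.apply]
          have hy2 : ext φ (y : W F k) = 0 := y.2
          rw [hy2, zero_smul, add_zero]
          rfl
      · intro p p' h
        exact Projectivization.map_injective (LinearMap.ker (ext φ)).subtype (Submodule.injective_subtype _) (congrArg Subtype.val h)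
      · rintro ⟨p, hp⟩
        induction p using Projectivization.ind with
        | h y hy =>
          have hy' : Projectivization.mk F (tau φ y) ((LinearEquiv.map_ne_zero_iff _).2 hy) =
              Projectivization.mk F y hy := hp
          obtain ⟨a, ha⟩ := (mk_eq_mk_iff' F _ _ _ _).1 hy'
          have h2 : ext φ y = 0 := by
            rw [tau_apply] at ha
            rw [ext_apply]
            have hb := congrArg Prod.snd ha
            have hf := congrArg Prod.fst ha
            simp only [Prod.smul_snd, Prod.smul_fst, smul_eq_mul] at hb hf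
            by_cases hu : y.2 = 0
            · rw [hu, map_zero]
            · have ha1 : a = 1 :=
                smul_left_injective F hu (show a • y.2 = (1 : F) • y.2 by rw [hb, one_smul])
              rw [ha1, one_mul] at hf
              exact (add_eq_left.1 hf.symm)
          refine ⟨Projectivization.mk F ⟨y, h2⟩ fun h => hy (congrArg Subtype.val h), ?_⟩
          exact Subtype.ext (Projectivization.map_mk (LinearMap.ker (ext φ)).subtype (Submodule.injective_subtype _) _ _)
    · intro x hx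
      refine hθK _ ⟨?_, ?_⟩
      · obtain ⟨c, hc, hce⟩ := S.mem_stab_iff.1 hx
        set X : W F k ≃ₗ[F] W F k := (x : W F k ≃ₗ[F] W F k)
        have hce' : X.symm (tau φ (X e0)) = c • e0 := hce
        rw [LinearEquiv.symm_apply_eq, map_smul, tau_apply] at hce'
        show X.symm (tau φ (X e0)) = e0
        rw [LinearEquiv.symm_apply_eq, tau_apply]
        have hb := congrArg Prod.snd hce'
        have hf := congrArg Prod.fst hce'
        simp only [Prod.smul_snd, Prod.smul_fst, smul_eq_mul] at hb hf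
        refine Prod.ext ?_ rfl
        show (X e0).1 + φ (X e0).2 = (X e0).1
        by_cases hu : (X e0).2 = 0
        · rw [hu, map_zero, add_zero]
        · have hc1 : c = 1 :=
            smul_left_injective F hu (show c • (X e0).2 = (1 : F) • (X e0).2 by
              rw [← hb, one_smul])
          rw [hf, hc1, one_mul]
      · simp only [Subgroup.coe_mul, Subgroup.coe_inv, map_mul, map_inv]
        show _ * LinearEquiv.det (tau φ) * _ = 1
        rw [det_tau, mul_one, inv_mul_cancel]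
  have hI1 : indLin (pt0 : ℙ F (W F k)) θ 1 = (G (Fintype.card F) (k + 1) : ℂ) := by
    rw [indLin, CfsgLib.Char.indFun_apply_one, S.index_stab, map_one, Units.val_one, mul_one]
  rcases two_transitive_eigen (pt0 : ℙ F (W F k)) θ ρ (two_le_lines (NeZero.ne k)) hwv hθ with
    hχ | ⟨n, τ, hτ, hτc, z, hz0, hz⟩
  · have h := congrFun hχ 1
    rw [Representation.char_one, hI1, Nat.cast_inj] at h
    omega
  · obtain ⟨φ, hφ⟩ := exists_dual_eq (Setup.exists_ne (F := F) (k := k)).choose_spec (1 : F)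
    have hφ0 : φ ≠ 0 := fun h => by rw [h] at hφ; exact zero_ne_one hφ
    have hd := S.finrank_eq ρ
    have h1 := hτc (S.tauG φ)
    rw [S.character_tauG_ne τ hφ0, S.character_tauG_ne ρ hφ0, hcount φ hφ0, hm] at h1
    have h2 := hτc 1
    rw [Representation.char_one, Representation.char_one, hI1] at h2
    have hdτ := S.finrank_eq τ
    rw [hm] at hd
    have hm0 : S.m τ = 0 := by
      have h1' : (S.mult τ 0 : ℤ) - (S.m τ : ℤ) =
          (G (Fintype.card F) k : ℤ) - ((S.mult ρ 0 : ℤ) - 1) := by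
        push_cast at h1
        exact_mod_cast h1
      have h2' : (finrank ℂ (Fin n → ℂ) : ℤ) =
          (G (Fintype.card F) (k + 1) : ℤ) - (finrank ℂ V : ℤ) := by exact_mod_cast h2
      rw [hdτ, hd, G_succ'] at h2'
      push_cast at h2'
      have hq : (S.m τ : ℤ) * (Fintype.card F : ℤ) ^ k = 0 := by linarith
      rcases mul_eq_zero.1 hq with h | h
      · exact_mod_cast h
      · exact absurd h (pow_ne_zero _ (by exact_mod_cast Fintype.card_ne_zero))
    have hspan : ∀ g : S.Γ, τ g z ∈ Submodule.span ℂ {z} := fun g => by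
      obtain ⟨s, hsd, hs⟩ := exists_det_one_map
        ((LinearEquiv.map_ne_zero_iff (g : W F k ≃ₗ[F] W F k)).2 e0_ne)
      let sG : S.Γ := ⟨s, S.mem_of_det s hsd⟩
      have hp : sG⁻¹ * g ∈ P := by
        rw [hP, S.mem_stab_iff]
        refine ⟨1, one_ne_zero, ?_⟩
        show s.symm ((g : W F k ≃ₗ[F] W F k) e0) = (1 : F) • e0
        rw [one_smul, LinearEquiv.symm_apply_eq, hs]
      have h : g = sG * (sG⁻¹ * g) := (mul_inv_cancel_left sG g).symm
      rw [h, map_mul, Module.End.mul_apply, hz ⟨_, hp⟩, map_smul,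
        S.apply_eq_one_of_m_zero τ hm0 sG hsd, Module.End.one_apply]
      exact Submodule.smul_mem _ _ (Submodule.mem_span_singleton_self z)
    have htop := CfsgLib.CharWeights.eq_top_of_invariant τ (Submodule.span ℂ {z})
      (fun g y hy => by
        obtain ⟨c, rfl⟩ := Submodule.mem_span_singleton.1 hy
        rw [map_smul]
        exact Submodule.smul_mem _ _ (hspan g))
      (by simpa using hz0)
    have hn : finrank ℂ (Fin n → ℂ) = 1 := by
      rw [← finrank_top ℂ (Fin n → ℂ), ← htop, finrank_span_singleton hz0]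
    rw [hn, Nat.cast_one] at h2
    have h3 : (G (Fintype.card F) (k + 1) : ℤ) = (finrank ℂ V : ℤ) + 1 := by
      have : (1 : ℤ) = (G (Fintype.card F) (k + 1) : ℤ) - (finrank ℂ V : ℤ) := by
        exact_mod_cast h2
      linarith
    omega

end Setup

end CfsgLib.SLMinDeg
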